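import Cfsg.Agent.Lib.ExtremeP.Local
import Cfsg.Agent.Lib.BrauerMap.PrincipalSection

/-!
# An element of order `p` of `H` fixed by `N_G(H)` is central
-/

set_option autoImplicit false
set_option linter.unusedSectionVars false
set_option linter.style.haveILetI false

open scoped Pointwise

namespace Cfsg.Agent.Lib.ExtremeP

open Cfsg.Agent.Lib.Characters Cfsg.Agent.Lib.Characters.Basic

universe u

variable {G : Type u} [Group G] [Finite G] {p : ℕ} [hp : Fact p.Prime] {H : Subgroup G}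

theorem central_of_fixed (hh : Hyp p H) (hp2 : p ≠ 2) (hO : Cfsg.pPrimeCore p G = ⊥)
    (hloc : ∀ c ∈ H, c ≠ 1 →
      Conclusion p (H.subgroupOf (Subgroup.centralizer ({c} : Set G))))
    {z : G} (hz : z ∈ H) (hzp : orderOf z = p)
    (hfix : ∀ n ∈ Subgroup.normalizer (H : Set G), n * z * n⁻¹ = z) :
    z ∈ Subgroup.center G := by
  classical
  letI := Fintype.ofFinite G
  by_contra hnc
  obtain ⟨M, hM⟩ := Blocks.exists_isPModular p hp.out
  haveI := hM.2.1
  have hz1 : z ^ p = 1 := hzp ▸ pow_orderOf_eq_one z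
  have hrot : ∀ (g : G) (j : ℕ), ∃ (K : Subgroup G) (k : G), Pair p H g K k ∧
      g * z ^ j * g⁻¹ * (z ^ j)⁻¹ ∈ K := by
    intro g j
    obtain ⟨K, k, pr⟩ := exists_pair hh g
    refine ⟨K, k, pr, ?_⟩
    set n := k⁻¹ * g with hn
    have hzn : n * z ^ j * n⁻¹ = z ^ j := by rw [← conj_pow, hfix n pr.conj]
    have e : g * z ^ j * g⁻¹ = k * z ^ j * k⁻¹ := by
      rw [show g = k * n by simp [hn], mul_inv_rev]
      calc k * n * z ^ j * (n⁻¹ * k⁻¹) = k * (n * z ^ j * n⁻¹) * k⁻¹ := by group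
        _ = k * z ^ j * k⁻¹ := by rw [hzn]
    rw [e, mul_assoc k, mul_assoc k]
    exact K.mul_mem pr.mem
      ((Subgroup.mem_normalizer_iff.1 (pr.le_normalizer (pow_mem hz j)) _).1 (inv_mem pr.mem))
  have hne : ∀ i, ¬ p ∣ i → z ^ i ≠ 1 := fun i hi h => hi (hzp ▸ orderOf_dvd_of_pow_eq_one h)
  -- the normalised values are multiplicative
  have hmul : ∀ χ ∈ Cfsg.principalBlock M G, ∀ i j : ℕ, ¬ p ∣ (i + j) →
      (χ : G → ℂ) (z ^ (i + j)) * (χ : G → ℂ) 1 = (χ : G → ℂ) (z ^ i) * (χ : G → ℂ) (z ^ j) := by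
    intro χ hχ i j hij
    have hterm : ∀ g : G, (χ : G → ℂ) (g * z ^ j * g⁻¹ * z ^ i) = (χ : G → ℂ) (z ^ (i + j)) := by
      intro g
      obtain ⟨K, k, pr, hm⟩ := hrot g j
      refine char_value hh hM (pow_mem hz _) (hloc _ (pow_mem hz _) (hne _ hij)) pr ?_ hχ
      have e : g * z ^ j * g⁻¹ * z ^ i * (z ^ (i + j))⁻¹ = g * z ^ j * g⁻¹ * (z ^ j)⁻¹ := by
        rw [pow_add]; group
      rwa [e]
    have hsum := Blocks.sum_char_conj_mul χ (z ^ i) (z ^ j)
    simp only [hterm, Finset.sum_const, Finset.card_univ, nsmul_eq_mul,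
      ← Nat.card_eq_fintype_card] at hsum
    have hG : (Nat.card G : ℂ) ≠ 0 := Nat.cast_ne_zero.mpr Nat.card_pos.ne'
    have h1 := apply_one_ne_zero χ
    field_simp at hsum
    linear_combination hsum
  have hp3 : 3 ≤ p := by
    have := hp.out.two_le
    omega
  have hdich : ∀ χ ∈ Cfsg.principalBlock M G,
      (χ : G → ℂ) z = 0 ∨ ‖(χ : G → ℂ) z‖ = ‖(χ : G → ℂ) 1‖ := by
    intro χ hχ
    by_cases h0 : (χ : G → ℂ) z = 0
    · exact Or.inl h0
    right
    have hpow : ∀ i, i + 1 < p → (χ : G → ℂ) (z ^ (i + 1)) * (χ : G → ℂ) 1 ^ i =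
        (χ : G → ℂ) z ^ (i + 1) := by
      intro i
      induction i with
      | zero => intro _; simp
      | succ i ih =>
        intro hi
        have h1 := hmul χ hχ 1 (i + 1) (fun hd => by
          have := Nat.le_of_dvd (by omega) hd
          omega)
        rw [pow_one] at h1
        rw [show z ^ (i + 1 + 1) = z ^ (1 + (i + 1)) from by rw [Nat.add_comm 1],
          pow_succ' ((χ : G → ℂ) 1) i, ← mul_assoc, h1, mul_assoc, ih (by omega), ← pow_succ']
    have e : z ^ (p - 2 + 1) = z⁻¹ := eq_inv_of_mul_eq_one_left (by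
      rw [← pow_succ, show p - 2 + 1 + 1 = p by omega, hz1])
    have hn := congrArg norm (hpow (p - 2) (by omega))
    rw [norm_mul, norm_pow, norm_pow, e, apply_inv (isCharacter_irr χ), Complex.norm_conj,
      pow_succ' ‖(χ : G → ℂ) z‖] at hn
    have hn' := mul_left_cancel₀ (norm_ne_zero_iff.mpr h0) hn
    exact ((pow_left_inj₀ (norm_nonneg _) (norm_nonneg _) (by omega)).mp hn').symm
  set R := Subgroup.normalClosure (Set.range fun g : G => g * z * g⁻¹ * z⁻¹) with hR
  haveI : R.Normal := Subgroup.normalClosure_normal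
  by_cases hpR : p ∣ Nat.card R
  swap
  · refine hnc (Subgroup.mem_center_iff.mpr fun g => ?_)
    have h1 : g * z * g⁻¹ * z⁻¹ ∈ (⊥ : Subgroup G) :=
      hO ▸ Cores.le_pPrimeCore_of_not_dvd hpR (Subgroup.subset_normalClosure ⟨g, rfl⟩)
    rw [Subgroup.mem_bot, mul_inv_eq_one, mul_inv_eq_iff_eq_mul] at h1
    exact h1
  -- an element of order p of `R` commuting with `z`
  obtain ⟨r, hr⟩ := exists_prime_orderOf_dvd_card' p hpR
  obtain ⟨P, hP⟩ := hh.pgroup.exists_le_sylow
  have hrp : IsPGroup p (Subgroup.zpowers (r : G)) :=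
    IsPGroup.of_card (n := 1) (by rw [Nat.card_zpowers, Subgroup.orderOf_coe, hr, pow_one])
  obtain ⟨Q, hQ⟩ := hrp.exists_le_sylow
  obtain ⟨a, ha⟩ := MulAction.exists_smul_eq G Q P
  set y := a * (r : G) * a⁻¹ with hy
  have hyP : y ∈ (P : Subgroup G) := by
    rw [← ha, Sylow.coe_subgroup_smul]
    exact ⟨r, hQ (Subgroup.mem_zpowers _), rfl⟩
  have hyR : y ∈ R := ‹R.Normal›.conj_mem _ r.2 a
  have hyp : orderOf y = p := by
    rw [hy, show orderOf (a * (r : G) * a⁻¹) = orderOf (r : G) from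
      orderOf_injective (MulAut.conj a).toMonoidHom (MulEquiv.injective _) _,
      Subgroup.orderOf_coe, hr]
  have hzy : Commute z y := by
    have hyN := ((Cfsg.Agent.S3021.result H hh.pgroup hh.closed).2 P hP).1 hyP
    exact (mul_inv_eq_iff_eq_mul.mp (hfix y hyN)).symm
  have hzyp : (z * y) ^ p = 1 := by rw [hzy.mul_pow, hz1, ← hyp, pow_orderOf_eq_one, one_mul]
  have hnconj : ¬ IsConj (z * y) z := by
    intro hc
    obtain ⟨g, hg⟩ := isConj_iff.mp hc.symm
    obtain ⟨K, k, pr, hm⟩ := hrot g 1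
    rw [pow_one, hg] at hm
    have e : z * y * z⁻¹ = y := by rw [hzy.eq, mul_inv_cancel_right]
    rw [e] at hm
    exact not_dvd_orderOf pr.pprime hm (hyp ▸ dvd_rfl)
  have hpp : ∀ w : G, w ^ p = 1 → ∃ k : ℕ, orderOf w = p ^ k := fun w hw => by
    rcases (Nat.dvd_prime hp.out).mp (orderOf_dvd_of_pow_eq_one hw) with h | h
    · exact ⟨0, h⟩
    · exact ⟨1, by rw [h, pow_one]⟩
  have horth := Blocks.sum_block_eq_zero hM (Blocks.isPPart_self hp.out (hpp _ hzyp))
    (Blocks.isPPart_self hp.out (hpp _ hz1)) hnconj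
    (Blocks.isPBlock_principalBlock (M := M) (G := G))
  letI := Fintype.ofFinite (Cfsg.IrrCharacter G)
  rw [finsum_mem_eq_sum_of_inter_support_eq (t := Finset.univ.filter
    (fun χ => χ ∈ Cfsg.principalBlock M G)) _ (by simp)] at horth
  have hterm : ∀ χ ∈ Finset.univ.filter (fun χ => χ ∈ Cfsg.principalBlock M G),
      (χ : G → ℂ) (z * y) * (χ : G → ℂ) z⁻¹ = (Complex.normSq ((χ : G → ℂ) z) : ℂ) := by
    intro χ hχ
    rw [apply_inv (isCharacter_irr χ)]
    rcases hdich χ (Finset.mem_filter.mp hχ).2 with h0 | hn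
    · simp [h0]
    · have hle : R ≤ Kernel.charKer (isCharacter_irr χ) := by
        haveI := Kernel.charKer_normal (isCharacter_irr χ)
        refine Subgroup.normalClosure_le_normal ?_
        rintro _ ⟨g, rfl⟩
        exact commutator_mem_charKer_of_norm χ hn g
      rw [(Kernel.apply_mul_of_apply_eq_one (isCharacter_irr χ) (hle hyR) z).2, Complex.mul_conj]
  rw [Finset.sum_congr rfl hterm, ← Complex.ofReal_sum, Complex.ofReal_eq_zero,
    Finset.sum_eq_zero_iff_of_nonneg fun χ _ => Complex.normSq_nonneg _] at horth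
  have h := horth (oneChar G)
    (Finset.mem_filter.mpr ⟨Finset.mem_univ _, Blocks.oneChar_mem_principalBlock⟩)
  simp [oneChar_apply] at h

end Cfsg.Agent.Lib.ExtremeP
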