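import Cfsg.Agent.Lib.ExtremeP.FixedStep

/-!
# No fixed points in `⁅X, H⁆`, the induction
-/

set_option autoImplicit false
set_option linter.unusedSectionVars false
set_option linter.style.haveILetI false

namespace Cfsg.Agent.Lib.ExtremeP

open scoped commutatorElement

universe u

variable {p : ℕ} [hp : Fact p.Prime]

theorem fixed_aux (hp2 : p ≠ 2) : ∀ (n : ℕ) (G : Type u) [Group G] [Finite G] (X H : Subgroup G),
    Nat.card X ≤ n → IsPGroup p H → IsMulCommutative H → ¬ p ∣ Nat.card X →
    H ≤ Subgroup.normalizer (X : Set G) →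
    (∀ x ∈ X, (H ⊔ H.map (MulAut.conj x).toMonoidHom) ⊓ X ⊓
      Subgroup.centralizer (H : Set G) = ⊥) →
    ⁅X, H⁆ ⊓ Subgroup.centralizer (H : Set G) = ⊥ := by
  intro n
  induction n with
  | zero =>
    intro G _ _ X H hX
    exact absurd hX (by have := Nat.card_pos (α := X); omega)
  | succ n ih =>
    intro G _ _ X H hX hHp hHab hXp hHX hcl
    have hcop := card_coprime_of_pgroup hHp hXp
    by_cases hXH : ⁅X, H⁆ = X
    swap
    · have hle := Coprime.commutator_le_of_le_normalizer hHX
      have hlt : Nat.card (⁅X, H⁆ : Subgroup G) ≤ n := by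
        have h1 := Subgroup.card_le_of_le hle
        have h2 : Nat.card (⁅X, H⁆ : Subgroup G) ≠ Nat.card X := fun e =>
          hXH (Subgroup.eq_of_le_of_card_ge hle e.ge)
        omega
      have h := ih G ⁅X, H⁆ H hlt hHp hHab
        (fun h => hXp (h.trans (Subgroup.card_dvd_of_le hle)))
        (Coprime.right_le_normalizer_commutator X H)
        fun x hx => le_bot_iff.mp ((inf_le_inf_right _ (inf_le_inf_left _ hle)).trans
          (hcl x (hle hx)).le)
      rwa [Coprime.commutator_commutator_eq hHX hcop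
        (Or.inl (Coprime.isSolvable_of_isPGroup hHp))] at h
    rw [hXH]
    set W := X ⊔ H with hW
    have hXW : X ≤ W := le_sup_left
    have hHW : H ≤ W := le_sup_right
    set H0 := H.subgroupOf W with hH0
    set X0 := X.subgroupOf W with hX0
    haveI : X0.Normal := (Subgroup.normal_subgroupOf_iff_le_normalizer hXW).mpr
      (sup_le Subgroup.le_normalizer hHX)
    have hHp0 : IsPGroup p H0 := hHp.comap_subtype
    have hHab0 : IsMulCommutative H0 := by
      haveI := hHab
      exact ⟨⟨fun a b => Subtype.ext (Subtype.ext (congrArg (fun t : H => (t : G))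
        (mul_comm' (⟨((a : W) : G), a.2⟩ : H) ⟨((b : W) : G), b.2⟩)))⟩⟩
    have hcardX : Nat.card X0 = Nat.card X := Nat.card_congr (Subgroup.subgroupOfEquivOfLe hXW).toEquiv
    have hmapH : H0.map W.subtype = H := Subgroup.map_subgroupOf_eq_of_le hHW
    have hmapX : X0.map W.subtype = X := Subgroup.map_subgroupOf_eq_of_le hXW
    have hcen : ∀ {a : W}, a ∈ Subgroup.centralizer (H0 : Set W) →
        (a : G) ∈ Subgroup.centralizer (H : Set G) := fun {a} ha =>
      Subgroup.mem_centralizer_iff.mpr fun h hh =>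
        congrArg Subtype.val (Subgroup.mem_centralizer_iff.mp ha ⟨h, hHW hh⟩ hh)
    have hcl0 : ∀ x ∈ X0, (H0 ⊔ H0.map (MulAut.conj x).toMonoidHom) ⊓ X0 ⊓
        Subgroup.centralizer (H0 : Set W) = ⊥ := by
      intro x hx
      rw [eq_bot_iff]
      rintro a ⟨⟨ha1, ha2⟩, ha3⟩
      have h1 : (a : G) ∈ H ⊔ H.map (MulAut.conj (x : G)).toMonoidHom := by
        have h2 : (a : G) ∈ (H0 ⊔ H0.map (MulAut.conj x).toMonoidHom).map W.subtype :=
          ⟨a, ha1, rfl⟩
        rw [Subgroup.map_sup, hmapH, Subgroup.map_map,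
          show W.subtype.comp (MulAut.conj x).toMonoidHom =
            (MulAut.conj (x : G)).toMonoidHom.comp W.subtype from MonoidHom.ext fun b => by simp,
          ← Subgroup.map_map, hmapH] at h2
        exact h2
      have h3 : (a : G) ∈ (⊥ : Subgroup G) := hcl (x : G) hx ▸ ⟨⟨h1, ha2⟩, hcen ha3⟩
      exact Subgroup.mem_bot.mpr (Subtype.ext (Subgroup.mem_bot.mp h3))
    have hmain := step X0 H0 hHp0 hHab0 (hcardX ▸ hXp) hp2
      (by rw [hX0, hH0, ← Subgroup.subgroupOf_sup hXW hHW, Subgroup.subgroupOf_self])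
      (Subgroup.map_injective W.subtype_injective (by
        rw [Subgroup.map_commutator, hmapH, hmapX, hXH]))
      hcl0 ?_
    · rw [eq_bot_iff]
      rintro a ⟨haX, haC⟩
      have h1 : (⟨a, hXW haX⟩ : W) ∈ X0 ⊓ Subgroup.centralizer (H0 : Set W) :=
        ⟨haX, Subgroup.mem_centralizer_iff.mpr fun h hh =>
          Subtype.ext (Subgroup.mem_centralizer_iff.mp haC (h : G) hh)⟩
      rw [hmain, Subgroup.mem_bot] at h1
      exact Subgroup.mem_bot.mpr (congrArg Subtype.val h1)
    · intro e he hne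
      have hlt : Nat.card (X0 ⊓ Subgroup.centralizer ({e} : Set W) : Subgroup W) ≤ n := by
        have h1 := Subgroup.card_le_of_le (inf_le_left : X0 ⊓ Subgroup.centralizer ({e} : Set W) ≤ X0)
        have h2 : Nat.card (X0 ⊓ Subgroup.centralizer ({e} : Set W) : Subgroup W) ≠ Nat.card X0 :=
          fun h => hne (Subgroup.eq_of_le_of_card_ge inf_le_left h.ge)
        omega
      refine ih W _ H0 hlt hHp0 hHab0
        (fun h => hXp (hcardX ▸ h.trans (Subgroup.card_dvd_of_le inf_le_left))) ?_
        fun x hx => le_bot_iff.mp ((inf_le_inf_right _ (inf_le_inf_left _ inf_le_left)).trans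
          (hcl0 x hx.1).le)
      intro a ha
      refine Subgroup.mem_normalizer_fintype fun y hy =>
        ⟨(inferInstance : X0.Normal).conj_mem y hy.1 a, Subgroup.mem_centralizer_singleton_iff.mpr ?_⟩
      haveI := hHab0
      have h1 : Commute e y := (Subgroup.mem_centralizer_singleton_iff.mp hy.2).symm
      have h2 : Commute e a := congrArg Subtype.val (mul_comm' (⟨e, he⟩ : H0) ⟨a, ha⟩)
      exact ((h2.mul_right h1).mul_right h2.inv_right).eq.symm

/-- No nontrivial fixed point of `H` in `⁅X, H⁆`. -/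
theorem fixed_points_trivial {G : Type u} [Group G] [Finite G] (hp2 : p ≠ 2) {X H : Subgroup G}
    (hHp : IsPGroup p H) (hHab : IsMulCommutative H) (hXp : ¬ p ∣ Nat.card X)
    (hHX : H ≤ Subgroup.normalizer (X : Set G))
    (hcl : ∀ x ∈ X, (H ⊔ H.map (MulAut.conj x).toMonoidHom) ⊓ X ⊓
      Subgroup.centralizer (H : Set G) = ⊥) :
    ⁅X, H⁆ ⊓ Subgroup.centralizer (H : Set G) = ⊥ :=
  fixed_aux hp2 _ G X H le_rfl hHp hHab hXp hHX hcl

end Cfsg.Agent.Lib.ExtremeP
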