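import Cfsg.Agent.S1496
import Cfsg.Agent.Lib.Characters.Kernel
import Cfsg.Agent.Lib.Induced.Integral
import Cfsg.Agent.Lib.Coprime.Commutator

/-!
# Small facts used for extremely closed `p`-subgroups
-/

set_option autoImplicit false
set_option linter.unusedSectionVars false
set_option linter.style.haveILetI false

namespace Cfsg.Agent.Lib.ExtremeP

open Cfsg.Agent.Lib.Characters Cfsg.Agent.Lib.Characters.Basic

universe u

variable {G : Type u} [Group G] [Finite G] {p : ℕ} [hp : Fact p.Prime]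

/-- An element acting as a scalar has its commutators in the kernel. -/
theorem commutator_mem_charKer_of_norm (χ : Cfsg.IrrCharacter G) {t : G}
    (h : ‖(χ : G → ℂ) t‖ = ‖(χ : G → ℂ) 1‖) (g : G) :
    g * t * g⁻¹ * t⁻¹ ∈ Kernel.charKer (isCharacter_irr χ) := by
  rw [Kernel.mem_charKer]
  obtain ⟨n, ρ, hρ⟩ := isCharacter_irr χ
  rw [← hρ] at h ⊢
  have hn : ‖ρ.character t‖ = Module.finrank ℂ (Fin n → ℂ) := by
    rw [h, ρ.char_one, Complex.norm_natCast]
  obtain ⟨c, hc⟩ := Induced.Integral.scalar_of_norm_character_eq ρ hn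
  refine ((Kernel.rep_eq_one_iff ρ _).1 ?_)
  have hcomm : ρ t * ρ g = ρ g * ρ t := by
    rw [hc]; ext v; simp [map_smul]
  rw [map_mul, map_mul, map_mul, ← hcomm, mul_assoc (ρ t), ← map_mul ρ g, mul_inv_cancel, map_one,
    mul_one, ← map_mul, mul_inv_cancel, map_one]

/-- An element of `K e` is conjugate under `K` to some `v e`, `v ∈ C_K(e)`. -/
theorem exists_conj_section {K : Subgroup G} (hK : ¬ p ∣ Nat.card K) {e : G}
    (he : ∃ k : ℕ, orderOf e = p ^ k) (hn : e ∈ Subgroup.normalizer (K : Set G)) {u : G}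
    (hu : u * e⁻¹ ∈ K) : ∃ x ∈ K, ∃ v ∈ K, Commute v e ∧ x * u * x⁻¹ = v * e := by
  obtain ⟨k, hk⟩ := he
  obtain ⟨x, hx, v, hv, hc, h⟩ := Cfsg.Agent.S1496.result K e hn
    (hk ▸ (hp.out.coprime_iff_not_dvd.mpr hK).pow_left k) (u * e⁻¹) hu
  exact ⟨x, hx, v, hv, hc, by rwa [inv_mul_cancel_right] at h⟩

theorem pow_orderOf_of_pgroup {H : Subgroup G} (hH : IsPGroup p H) {e : G} (he : e ∈ H) :
    ∃ k : ℕ, orderOf e = p ^ k := by
  obtain ⟨k, hk⟩ := IsPGroup.iff_orderOf.1 hH ⟨e, he⟩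
  exact ⟨k, by rwa [Subgroup.orderOf_mk] at hk⟩

/-- A coprime action without nontrivial fixed points: `Z = ⁅Z, H⁆`. -/
theorem eq_commutator_of_fixed {H Z : Subgroup G} (hHp : IsPGroup p H)
    (hZp : ¬ p ∣ Nat.card Z) (hHZ : H ≤ Subgroup.normalizer (Z : Set G))
    (h : Z ⊓ Subgroup.centralizer (H : Set G) = ⊥) : ⁅Z, H⁆ = Z := by
  have hcop : (Nat.card H).Coprime (Nat.card Z) := by
    obtain ⟨n, hn⟩ := hHp.exists_card_eq
    rw [hn]
    exact (hp.out.coprime_iff_not_dvd.mpr hZp).pow_left n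
  have h1 := Coprime.commutator_sup_centralizer hHZ hcop
    (Or.inl (Coprime.isSolvable_of_isPGroup hHp))
  rwa [h, sup_bot_eq] at h1

end Cfsg.Agent.Lib.ExtremeP
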