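import Cfsg.Agent.Lib.ExtremeP.Section
import Cfsg.Agent.Lib.ExtremeP.Prelim
import Cfsg.Agent.Lib.BrauerMap.PrincipalSection
import Cfsg.Agent.Lib.PrincipalCore.Basic
import Cfsg.Agent.Lib.RelGlauberman.Main

/-!
# No fixed points in `⁅X, H⁆`

`H` an abelian `p`-group, `p` odd, acting on the `p'`-group `X` so that for each `x` the
`p'`-part of `⟨H, H^x⟩` has no fixed point of `H`.  Then `⁅X, H⁆` has none.  The point: for a
nontrivial invariant character, the normalised values on `H` would be multiplicative, hence of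
absolute value one.
-/

set_option autoImplicit false
set_option linter.unusedSectionVars false
set_option linter.style.haveILetI false

namespace Cfsg.Agent.Lib.ExtremeP

open Cfsg.Agent.Lib.Characters Cfsg.Agent.Lib.Characters.Basic
open scoped commutatorElement

universe u

variable {G : Type u} [Group G] [Finite G] {p : ℕ} [hp : Fact p.Prime]

omit [Finite G] in
theorem mem_center_of_top {X H : Subgroup G} (htop : X ⊔ H = ⊤) {z : G}
    (hX : ∀ x ∈ X, Commute z x) (hH : ∀ h ∈ H, Commute z h) (g : G) : Commute z g := by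
  have hle : X ⊔ H ≤ Subgroup.centralizer ({z} : Set G) := sup_le
    (fun x hx => Subgroup.mem_centralizer_singleton_iff.mpr (hX x hx).eq.symm)
    (fun h hh => Subgroup.mem_centralizer_singleton_iff.mpr (hH h hh).eq.symm)
  rw [htop] at hle
  exact (Subgroup.mem_centralizer_singleton_iff.mp (hle (Subgroup.mem_top g))).symm

theorem step (X H : Subgroup G) [X.Normal] (hHp : IsPGroup p H) (hHab : IsMulCommutative H)
    (hXp : ¬ p ∣ Nat.card X) (hp2 : p ≠ 2) (htop : X ⊔ H = ⊤) (hXH : ⁅X, H⁆ = X)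
    (hcl : ∀ x ∈ X, (H ⊔ H.map (MulAut.conj x).toMonoidHom) ⊓ X ⊓
      Subgroup.centralizer (H : Set G) = ⊥)
    (hind : ∀ e ∈ H, X ⊓ Subgroup.centralizer ({e} : Set G) ≠ X →
      ⁅X ⊓ Subgroup.centralizer ({e} : Set G), H⁆ ⊓ Subgroup.centralizer (H : Set G) = ⊥) :
    X ⊓ Subgroup.centralizer (H : Set G) = ⊥ := by
  classical
  by_contra hC
  letI := Fintype.ofFinite G
  have hcommH : ∀ a ∈ H, ∀ b ∈ H, Commute a b := fun a ha b hb =>
    congrArg Subtype.val (mul_comm' (⟨a, ha⟩ : H) ⟨b, hb⟩)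
  have hcop : (Nat.card X).Coprime (Nat.card H) := (card_coprime_of_pgroup hHp hXp).symm
  have hnorm : ∀ h ∈ H, ∀ x ∈ X, h * x * h⁻¹ ∈ X := fun h _ x hx =>
    (inferInstance : X.Normal).conj_mem x hx h
  -- a nontrivial invariant character of `X`
  obtain ⟨θ, hθ, hθ1⟩ : ∃ θ : Cfsg.IrrCharacter X,
      Glauberman.Inv (Glauberman.actOf hnorm) (θ : X → ℂ) ∧ θ ≠ oneChar X := by
    haveI : Group.IsSolvable H := Coprime.isSolvable_of_isPGroup hHp
    set C := X ⊓ Subgroup.centralizer (H : Set G) with hCdef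
    have hcard := Glauberman.card_inv_irr
      (Glauberman.isFix_actOf hnorm hCdef inf_le_left) hcop
    obtain ⟨g, hgC, hg⟩ := C.bot_or_exists_ne_one.resolve_left hC
    obtain ⟨β, hβ⟩ := Kernel.exists_apply_ne_degree (g := (⟨g, hgC⟩ : C))
      fun h => hg (congrArg Subtype.val h)
    haveI : Nontrivial (Cfsg.IrrCharacter C) :=
      ⟨⟨β, oneChar C, fun h => hβ (by rw [h]; rfl)⟩⟩
    haveI : Nontrivial {θ : Cfsg.IrrCharacter X //
        Glauberman.Inv (Glauberman.actOf hnorm) (θ : X → ℂ)} := by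
      rw [← Finite.one_lt_card_iff_nontrivial, hcard, Finite.one_lt_card_iff_nontrivial]
      infer_instance
    obtain ⟨θ, hθ⟩ := exists_ne (⟨oneChar X, fun _ _ => rfl⟩ :
      {θ : Cfsg.IrrCharacter X // Glauberman.Inv (Glauberman.actOf hnorm) (θ : X → ℂ)})
    exact ⟨θ.1, θ.2, fun h => hθ (Subtype.ext h)⟩
  -- its extension
  have hinv : ∀ (g : G) (n : X),
      (θ : X → ℂ) ⟨g * n * g⁻¹, (inferInstance : X.Normal).conj_mem (n : G) n.2 g⟩ = (θ : X → ℂ) n := by
    intro g n
    have hle : (⊤ : Subgroup G) ≤ Clifford.Basic.inertia X (θ : X → ℂ) := by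
      rw [← htop]
      refine sup_le (Clifford.Basic.le_inertia X (isClassFunction_irr θ)) fun h hh =>
        funext fun m => ?_
      exact hθ ⟨h, hh⟩ m
    exact congrFun (hle (Subgroup.mem_top g)) n
  obtain ⟨d, -, hdvd, hd⟩ := Degree.exists_degree_dvd θ
  have hidx : X.index = Nat.card H := by
    have hc := Subgroup.isComplement'_of_disjoint_and_mul_eq_univ (H := X) (K := H)
      (Subgroup.disjoint_of_coprime_natCard hcop)
      (by rw [← Subgroup.normal_mul, htop, Subgroup.coe_top])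
    exact hc.symm.index_eq_card
  have hdetdvd := RelGlauberman.detOrder_dvd_card θ.2
  obtain ⟨χ₀, ⟨hχirr, hres, hdet0⟩, -⟩ := Cfsg.Agent.S0867.result X (θ : X → ℂ) θ.2 hinv d hd
    (hidx ▸ (Nat.Coprime.mul_right (hcop.symm.coprime_dvd_right hdetdvd)
      (hcop.symm.coprime_dvd_right hdvd)))
  let χ : Cfsg.IrrCharacter G := ⟨χ₀, hχirr⟩
  have hdet : ¬ p ∣ Cfsg.detOrder (χ : G → ℂ) := fun h => hXp ((hdet0 ▸ h).trans hdetdvd)
  have hval := fun {e : G} (he : e ∈ H) =>
    value_section X H hHp hHab hXp θ χ hres hdet he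
  -- multiplicativity
  have hmul : ∀ c ∈ H, ∀ d ∈ H, X ⊓ Subgroup.centralizer ({c * d} : Set G) ≠ X →
      (χ : G → ℂ) (c * d) * (χ : G → ℂ) 1 = (χ : G → ℂ) c * (χ : G → ℂ) d := by
    intro c hc d hdH hne
    set e := c * d with he_def
    have he : e ∈ H := mul_mem hc hdH
    have hterm : ∀ g : G, (χ : G → ℂ) (g * d * g⁻¹ * c) = (χ : G → ℂ) e := by
      intro g
      obtain ⟨x, hx, h, hh, rfl⟩ := Subgroup.mem_sup_of_normal_left.mp (htop ▸ Subgroup.mem_top g)
      have e1 : x * h * d * (x * h)⁻¹ = x * d * x⁻¹ := by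
        rw [mul_assoc x h d, (hcommH h hh d hdH).eq]; group
      rw [e1]
      set L := H ⊔ H.map (MulAut.conj x).toMonoidHom with hL
      set K := L ⊓ X with hK
      have hHL : H ≤ L := le_sup_left
      have hu : x * d * x⁻¹ * c * e⁻¹ ∈ K := by
        have h2 : x * d * x⁻¹ * c * e⁻¹ = x * d * x⁻¹ * d⁻¹ := by
          rw [he_def, (hcommH c hc d hdH).eq]; group
        rw [h2]
        refine ⟨L.mul_mem (Subgroup.mem_sup_right ⟨d, hdH, rfl⟩) (L.inv_mem (hHL hdH)), ?_⟩
        rw [mul_assoc x d, mul_assoc x]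
        exact mul_mem hx (hnorm d hdH _ (inv_mem hx))
      have hKp : ¬ p ∣ Nat.card K := fun h => hXp (h.trans (Subgroup.card_dvd_of_le inf_le_right))
      have hHK : H ≤ Subgroup.normalizer (K : Set G) := fun a ha =>
        Subgroup.mem_normalizer_fintype fun y hy =>
          ⟨L.mul_mem (L.mul_mem (hHL ha) hy.1) (L.inv_mem (hHL ha)), hnorm a ha y hy.2⟩
      obtain ⟨y, hy, v, hv, hvc, hveq⟩ :=
        exists_conj_section hKp (pow_orderOf_of_pgroup hHp he) (hHK he) hu
      set Z := K ⊓ Subgroup.centralizer ({e} : Set G) with hZ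
      have hHZ : H ≤ Subgroup.normalizer (Z : Set G) := fun a ha =>
        Subgroup.mem_normalizer_fintype fun y hy => by
          refine ⟨(Subgroup.mem_normalizer_iff.mp (hHK ha) y).mp hy.1,
            Subgroup.mem_centralizer_singleton_iff.mpr ?_⟩
          have h1 : Commute e y := (Subgroup.mem_centralizer_singleton_iff.mp hy.2).symm
          exact (((hcommH e he a ha).mul_right h1).mul_right (hcommH e he a ha).inv_right).eq.symm
      have hZfix : Z ⊓ Subgroup.centralizer (H : Set G) = ⊥ :=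
        le_bot_iff.mp ((inf_le_inf_right _ inf_le_left).trans (hcl x hx).le)
      have hZ' := eq_commutator_of_fixed hHp
        (fun h => hKp (h.trans (Subgroup.card_dvd_of_le inf_le_left))) hHZ hZfix
      have hvD : v ∈ ⁅X ⊓ Subgroup.centralizer ({e} : Set G), H⁆ := by
        have hvZ : v ∈ ⁅Z, H⁆ := hZ'.symm ▸ ⟨hv, Subgroup.mem_centralizer_singleton_iff.mpr hvc.eq⟩
        exact Subgroup.commutator_mono (inf_le_inf_right _ inf_le_right) le_rfl hvZ
      rw [← (hval he).2 (hind e he hne) v hvD, ← hveq, Blocks.char_conj_apply]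
    have hsum := Blocks.sum_char_conj_mul χ c d
    simp only [hterm, Finset.sum_const, Finset.card_univ, nsmul_eq_mul,
      ← Nat.card_eq_fintype_card] at hsum
    have hG : (Nat.card G : ℂ) ≠ 0 := Nat.cast_ne_zero.mpr Nat.card_pos.ne'
    have h1 := apply_one_ne_zero χ
    field_simp at hsum
    linear_combination hsum
  -- every element of `H` acts as a scalar
  have hker : ∀ c ∈ H, ∀ x ∈ X, x * c * x⁻¹ * c⁻¹ ∈ Kernel.charKer (isCharacter_irr χ) := by
    intro c hc x hx
    by_cases hcX : ∀ y ∈ X, Commute c y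
    · rw [← (hcX x hx).eq]; simp
    refine commutator_mem_charKer_of_norm χ ?_ x
    obtain ⟨k, hk⟩ := pow_orderOf_of_pgroup hHp hc
    have hex : ∃ i, 0 < i ∧ ∀ y ∈ X, Commute (c ^ i) y :=
      ⟨orderOf c, orderOf_pos c, fun y _ => by rw [pow_orderOf_eq_one]; exact Commute.one_left y⟩
    set q := Nat.find hex with hq
    obtain ⟨hq0, hqc⟩ := Nat.find_spec hex
    have hq3 : 3 ≤ q := by
      by_contra hlt
      rcases (show q = 1 ∨ q = 2 by omega) with h1 | h2
      · exact hcX fun y hy => by simpa [← hq, h1] using hqc y hy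
      · refine hcX fun y hy => ?_
        have hodd : Odd (orderOf c) := hk ▸ (hp.out.odd_of_ne_two hp2).pow
        obtain ⟨m, hm⟩ := hodd
        have e2 : (c ^ q) ^ (m + 1) = c := by
          rw [← pow_mul, h2, show 2 * (m + 1) = orderOf c + 1 by omega, pow_succ,
            pow_orderOf_eq_one, one_mul]
        exact e2 ▸ (hqc y hy).pow_left (m + 1)
    have hpow : ∀ i, i + 1 < q → (χ : G → ℂ) (c ^ (i + 1)) * (χ : G → ℂ) 1 ^ i =
        (χ : G → ℂ) c ^ (i + 1) := by
      intro i
      induction i with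
      | zero => intro _; simp
      | succ i ih =>
        intro hi
        have hne : X ⊓ Subgroup.centralizer ({c * c ^ (i + 1)} : Set G) ≠ X := fun h => by
          refine Nat.find_min hex hi ⟨Nat.succ_pos _, fun y hy => ?_⟩
          rw [pow_succ' c (i + 1)]
          exact (Subgroup.mem_centralizer_singleton_iff.mp ((inf_eq_left.mp h) hy)).symm
        have h1 := hmul c hc _ (pow_mem hc _) hne
        rw [show c ^ (i + 1 + 1) = c * c ^ (i + 1) from pow_succ' c _,
          pow_succ' ((χ : G → ℂ) 1) i, ← mul_assoc, h1, mul_assoc, ih (by omega), ← pow_succ']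
    have hz : ∀ g : G, Commute (c ^ q) g := mem_center_of_top htop hqc
      fun h hh => hcommH _ (pow_mem hc q) h hh
    have hcc := BrauerMap.PrincipalSection.char_central_mul_mul_inv hz χ c⁻¹
    have e3 : c ^ q * c⁻¹ = c ^ (q - 2 + 1) := by
      rw [show q - 2 + 1 = q - 1 by omega, eq_comm, eq_mul_inv_iff_mul_eq, ← pow_succ,
        Nat.sub_add_cancel (by omega)]
    rw [e3, inv_inv, apply_inv (isCharacter_irr χ), apply_inv (isCharacter_irr χ),
      Complex.mul_conj, mul_comm,
      Complex.mul_conj, Complex.ofReal_inj, Complex.normSq_eq_norm_sq, Complex.normSq_eq_norm_sq,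
      sq_eq_sq₀ (norm_nonneg _) (norm_nonneg _)] at hcc
    have hn := congrArg norm (hpow (q - 2) (by omega))
    rw [norm_mul, norm_pow, norm_pow, hcc, pow_succ' ‖(χ : G → ℂ) c‖] at hn
    have hn' := mul_left_cancel₀ (norm_ne_zero_iff.mpr (hval hc).1) hn
    exact ((pow_left_inj₀ (norm_nonneg _) (norm_nonneg _) (by omega)).mp hn').symm
  -- so the invariant character is trivial
  refine hθ1 (PrincipalCore.Basic.eq_oneChar_of_const fun x => ?_)
  have hle : ⁅X, H⁆ ≤ Kernel.charKer (isCharacter_irr χ) := by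
    rw [Subgroup.commutator_le]
    intro a ha b hb
    exact hker b hb a ha
  rw [hXH] at hle
  rw [← hres x, ← hres 1]
  exact hle x.2

end Cfsg.Agent.Lib.ExtremeP
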