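import Cfsg.Agent.Lib.ExtremeP.Local
import Cfsg.Agent.Lib.Chars82.Convolution

/-!
# The sum of a principal block character over `H`

From positivity on the subgroups `⟨H, H^g⟩`: `(|H| - 1) X ≤ |H| χ(1)` or `X ≥ |H| χ(1)`,
with `X = ∑_{h ∈ H} χ(h)`.
-/

set_option autoImplicit false
set_option linter.unusedSectionVars false
set_option linter.style.haveILetI false

open scoped Pointwise ComplexConjugate

namespace Cfsg.Agent.Lib.ExtremeP

open Cfsg.Agent.Lib.Characters Cfsg.Agent.Lib.Characters.Basic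

universe u

variable {G : Type u} [Group G] [Finite G] {p : ℕ} [hp : Fact p.Prime] {H : Subgroup G}

/-- The positive form `(x, y) ↦ χ (x⁻¹ y)`. -/
theorem quad_nonneg [Fintype G] (χ : Cfsg.IrrCharacter G) {ι : Type*} [Fintype ι] (x : ι → G)
    (a : ι → ℝ) : 0 ≤ (∑ i, ∑ j, ((a i * a j : ℝ) : ℂ) * (χ : G → ℂ) ((x i)⁻¹ * x j)).re := by
  obtain ⟨n, -, hn⟩ := exists_degree_pos χ
  have hG : (Nat.card G : ℂ) ≠ 0 := Nat.cast_ne_zero.mpr Nat.card_pos.ne'
  have key : ∀ u v : G, (χ : G → ℂ) (u⁻¹ * v) = (n : ℂ) / (Nat.card G : ℂ) *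
      ∑ z : G, conj ((χ : G → ℂ) (z⁻¹ * u)) * (χ : G → ℂ) (z⁻¹ * v) := by
    intro u v
    have h := Chars82.Convolution.sum_apply_mul χ (u⁻¹ * v)
    have h' : ∑ z : G, conj ((χ : G → ℂ) (z⁻¹ * u)) * (χ : G → ℂ) (z⁻¹ * v) =
        (Nat.card G : ℂ) * (χ : G → ℂ) (u⁻¹ * v) / (χ : G → ℂ) 1 := by
      rw [← h]
      refine Fintype.sum_equiv (Equiv.mulLeft u⁻¹) _ _ fun z => ?_
      rw [← apply_inv (isCharacter_irr χ)]
      simp [mul_assoc]
    have hn0 : (n : ℂ) ≠ 0 := hn ▸ apply_one_ne_zero χ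
    rw [h', hn]
    field_simp
  have e : ∑ i, ∑ j, ((a i * a j : ℝ) : ℂ) * (χ : G → ℂ) ((x i)⁻¹ * x j) =
      (((n : ℝ) / (Nat.card G : ℝ) *
        ∑ z : G, Complex.normSq (∑ i, (a i : ℂ) * (χ : G → ℂ) (z⁻¹ * x i)) : ℝ) : ℂ) := by
    have hsq : ∀ z : G, (Complex.normSq (∑ i, (a i : ℂ) * (χ : G → ℂ) (z⁻¹ * x i)) : ℂ) =
        ∑ i, ∑ j, ((a i * a j : ℝ) : ℂ) *
          (conj ((χ : G → ℂ) (z⁻¹ * x i)) * (χ : G → ℂ) (z⁻¹ * x j)) := by
      intro z
      rw [Complex.normSq_eq_conj_mul_self, map_sum, Finset.sum_mul]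
      refine Finset.sum_congr rfl fun i _ => ?_
      rw [map_mul, Complex.conj_ofReal, Finset.mul_sum]
      refine Finset.sum_congr rfl fun j _ => ?_
      push_cast
      ring
    rw [Complex.ofReal_mul, Complex.ofReal_sum, Finset.sum_congr rfl fun z _ => hsq z,
      Finset.sum_comm (s := (Finset.univ : Finset G)), Finset.mul_sum]
    refine Finset.sum_congr rfl fun i _ => ?_
    rw [Finset.sum_comm (s := (Finset.univ : Finset G)), Finset.mul_sum]
    refine Finset.sum_congr rfl fun j _ => ?_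
    rw [key, ← Finset.mul_sum]
    push_cast
    ring
  rw [e, Complex.ofReal_re]
  exact mul_nonneg (by positivity) (Finset.sum_nonneg fun z _ => Complex.normSq_nonneg _)

/-- For a family in a subgroup `L`, against the uniform distribution of `L`. -/
theorem family_bound [Fintype G] (χ : Cfsg.IrrCharacter G) (L : Subgroup G) [Fintype L]
    {ι : Type*} [Fintype ι] (x : ι → G) (hx : ∀ i, x i ∈ L) :
    (Fintype.card ι : ℝ) ^ 2 * (∑ l : L, (χ : G → ℂ) l).re ≤
      (Fintype.card L : ℝ) * (∑ i, ∑ j, (χ : G → ℂ) ((x i)⁻¹ * x j)).re := by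
  set S := ∑ l : L, (χ : G → ℂ) l with hS
  have h := quad_nonneg χ (Sum.elim x (fun l : L => (l : G)))
    (Sum.elim (fun _ => (Fintype.card L : ℝ)) (fun _ => -(Fintype.card ι : ℝ)))
  have hl : ∀ w ∈ L, ∑ l : L, (χ : G → ℂ) (w⁻¹ * l) = S := fun w hw =>
    Fintype.sum_equiv (Equiv.mulLeft (⟨w, hw⟩ : L)⁻¹) _ _ fun l => rfl
  have hr : ∀ w ∈ L, ∑ l : L, (χ : G → ℂ) ((l : G)⁻¹ * w) = S := fun w hw =>
    Fintype.sum_equiv ((Equiv.inv L).trans (Equiv.mulRight (⟨w, hw⟩ : L))) _ _ fun l => rfl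
  simp only [Fintype.sum_sum_type, Sum.elim_inl, Sum.elim_inr, Finset.sum_add_distrib,
    ← Finset.mul_sum, hl _ (hx _), hl _ (SetLike.coe_mem _)] at h
  rw [Finset.sum_comm (s := (Finset.univ : Finset L))] at h
  simp only [hr _ (hx _), Finset.sum_const, Finset.card_univ, nsmul_eq_mul, Complex.add_re,
    Complex.re_ofReal_mul] at h
  simp only [Complex.mul_re, Complex.natCast_re, Complex.natCast_im, zero_mul, sub_zero] at h
  have hL : (0 : ℝ) < Fintype.card L := Nat.cast_pos.mpr Fintype.card_pos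
  refine le_of_mul_le_mul_left ?_ hL
  linarith

theorem sum_subgroup_real (χ : Cfsg.IrrCharacter G) (L : Subgroup G) [Fintype L] :
    ((∑ l : L, (χ : G → ℂ) l).re : ℂ) = ∑ l : L, (χ : G → ℂ) l := by
  apply Complex.conj_eq_iff_re.mp
  rw [map_sum]
  refine Fintype.sum_equiv (Equiv.inv L) _ _ fun l => ?_
  rw [← apply_inv (isCharacter_irr χ)]
  rfl

/-- Summation over `H ⊔ K = K H`. -/
theorem sum_sup_eq (hH : IsPGroup p H) {K : Subgroup G} (hK : ¬ p ∣ Nat.card K)
    (hHK : H ≤ Subgroup.normalizer (K : Set G)) {R : Type*} [AddCommMonoid R]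
    [Fintype H] [Fintype K] [Fintype (H ⊔ K : Subgroup G)] (f : G → R) :
    ∑ l : (H ⊔ K : Subgroup G), f l = ∑ c : H, ∑ v : K, f ((v : G) * c) := by
  have hb : Function.Bijective (fun q : H × K => (⟨(q.2 : G) * q.1,
      mul_mem (Subgroup.mem_sup_right q.2.2) (Subgroup.mem_sup_left q.1.2)⟩ :
        (H ⊔ K : Subgroup G))) := by
    constructor
    · rintro ⟨c, v⟩ ⟨c', v'⟩ h
      have h' : (v : G) * c = v' * c' := congrArg Subtype.val h
      have h1 : (v' : G)⁻¹ * v = c' * (c : G)⁻¹ := by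
        rw [inv_mul_eq_iff_eq_mul, ← mul_assoc, ← h', mul_inv_cancel_right]
      have h2 := eq_one_of_mem_both hH hK (H.mul_mem c'.2 (H.inv_mem c.2))
        (h1 ▸ K.mul_mem (K.inv_mem v'.2) v.2)
      have ec : (c' : G) = c := mul_inv_eq_one.mp h2
      refine Prod.ext (Subtype.ext ec.symm) (Subtype.ext ?_)
      rw [h2, inv_mul_eq_one] at h1
      exact h1.symm
    · rintro ⟨l, hl⟩
      have hl' : l ∈ ((K : Set G) * (H : Set G)) := by
        rw [← Subgroup.coe_mul_of_right_le_normalizer_left K H hHK, sup_comm]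
        exact hl
      obtain ⟨v, hv, c, hc, rfl⟩ := hl'
      exact ⟨(⟨c, hc⟩, ⟨v, hv⟩), rfl⟩
  rw [← Fintype.sum_prod_type']
  exact (Fintype.sum_bijective _ hb _ _ fun q => rfl).symm

/-- The key inequality. -/
theorem sum_dichotomy (hh : Hyp p H) [Fintype G] [Fintype H] {M : Ideal Cfsg.AlgInt}
    (hM : Cfsg.IsPModular p M)
    (hloc : ∀ c ∈ H, c ≠ 1 →
      Conclusion p (H.subgroupOf (Subgroup.centralizer ({c} : Set G))))
    {χ : Cfsg.IrrCharacter G} (hχ : χ ∈ Cfsg.principalBlock M G) {n : ℕ}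
    (hn : (χ : G → ℂ) 1 = n) (hm : 2 ≤ Fintype.card H) :
    ((Fintype.card H : ℝ) - 1) * (∑ h : H, (χ : G → ℂ) h).re ≤ Fintype.card H * n ∨
      (Fintype.card H : ℝ) * n ≤ (∑ h : H, (χ : G → ℂ) h).re := by
  classical
  set m : ℝ := (Fintype.card H : ℝ) with hm'
  have hm2 : (2 : ℝ) ≤ m := by rw [hm']; exact_mod_cast hm
  set X := (∑ h : H, (χ : G → ℂ) h).re with hX
  have hXc : (X : ℂ) = ∑ h : H, (χ : G → ℂ) h := sum_subgroup_real χ H
  let T : G → ℂ := fun g => ∑ a : H, ∑ b : H, (χ : G → ℂ) (g * (b : G) * g⁻¹ * a)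
  have hT : ∀ g, m ^ 2 * (X - n) ≤ (m - 1) * (T g).re := by
    intro g
    obtain ⟨K, k, pr⟩ := exists_pair hh g
    letI := Fintype.ofFinite K
    letI := Fintype.ofFinite (H ⊔ K : Subgroup G)
    set SL := ∑ l : (H ⊔ K : Subgroup G), (χ : G → ℂ) l with hSL
    set SK := ∑ v : K, (χ : G → ℂ) v with hSK
    have hKpos : (0 : ℝ) < Fintype.card K := Nat.cast_pos.mpr Fintype.card_pos
    have hdec : SL = SK + (Fintype.card K : ℂ) * ((X : ℂ) - n) := by
      rw [hSL, sum_sup_eq hh.pgroup pr.pprime pr.le_normalizer,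
        ← Finset.add_sum_erase _ _ (Finset.mem_univ (1 : H))]
      congr 1
      · exact Finset.sum_congr rfl fun v _ => by simp
      rw [Finset.sum_congr rfl (g := fun c : H => (Fintype.card K : ℂ) * (χ : G → ℂ) c) fun c hc => by
        have hc1 : (c : G) ≠ 1 := fun h => (Finset.mem_erase.mp hc).1 (Subtype.ext h)
        rw [Finset.sum_congr rfl (g := fun _ : K => (χ : G → ℂ) c) fun v _ =>
          char_value hh hM c.2 (hloc c c.2 hc1) pr (by rw [mul_inv_cancel_right]; exact v.2) hχ,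
          Finset.sum_const, Finset.card_univ, nsmul_eq_mul],
        ← Finset.mul_sum, ← Finset.add_sum_erase _ _ (Finset.mem_univ (1 : H)) |>.trans hXc.symm,
        OneMemClass.coe_one, hn]
      ring
    have hcard : (Fintype.card (H ⊔ K : Subgroup G) : ℝ) = m * Fintype.card K := by
      have h := sum_sup_eq hh.pgroup pr.pprime pr.le_normalizer (fun _ => (1 : ℝ))
      simpa [hm'] using h
    have h1 := family_bound χ (H ⊔ K : Subgroup G) (fun v : K => (v : G))
      fun v => Subgroup.mem_sup_right v.2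
    have hKK : ∀ w : K, ∑ v : K, (χ : G → ℂ) ((w : G)⁻¹ * v) = SK := fun w =>
      Fintype.sum_equiv (Equiv.mulLeft w⁻¹) _ _ fun v => rfl
    simp only [hKK, Finset.sum_const, Finset.card_univ, nsmul_eq_mul, Complex.mul_re,
      Complex.natCast_re, Complex.natCast_im, zero_mul, sub_zero, hcard, ← hSL] at h1
    have h2 := family_bound χ (H ⊔ K : Subgroup G) (fun q : H × H => (q.1 : G) * (g * q.2 * g⁻¹))
      fun q => mul_mem (Subgroup.mem_sup_left q.1.2)
        (pr.sup ▸ Subgroup.mem_sup_right (conj_mem_map q.2.2))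
    have hPP : ∀ q : H × H, ∑ q' : H × H,
        (χ : G → ℂ) (((q.1 : G) * (g * q.2 * g⁻¹))⁻¹ * ((q'.1 : G) * (g * q'.2 * g⁻¹))) = T g := by
      intro q
      rw [Fintype.sum_prod_type]
      refine Fintype.sum_equiv (Equiv.mulLeft q.1⁻¹) _ _ fun a => ?_
      refine Fintype.sum_equiv (Equiv.mulRight q.2⁻¹) _ _ fun b => ?_
      refine Eq.trans ?_ (Blocks.char_conj_apply χ _ (((q.1 : G)⁻¹ * a)⁻¹ * (g * q.2 * g⁻¹))⁻¹)
      simp [mul_assoc]
    simp only [hPP, Finset.sum_const, Finset.card_univ, nsmul_eq_mul, Complex.mul_re,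
      Complex.mul_im, Complex.natCast_re, Complex.natCast_im, zero_mul, mul_zero, add_zero,
      sub_zero, hcard, Fintype.card_prod, Nat.cast_mul, ← hm', ← hSL] at h2
    have hre : SL.re = SK.re + (Fintype.card K : ℝ) * (X - n) := by
      rw [hdec]; simp
    rw [hre] at h1 h2
    set kk : ℝ := (Fintype.card K : ℝ) with hk
    have a1 : kk * (X - n) ≤ (m - 1) * SK.re := by
      refine le_of_mul_le_mul_left ?_ (mul_pos hKpos hKpos)
      linarith
    have a2 : m * SK.re + m * (kk * (X - n)) ≤ kk * (T g).re := by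
      refine le_of_mul_le_mul_left ?_ (mul_pos (mul_pos (lt_of_lt_of_le two_pos hm2)
        (lt_of_lt_of_le two_pos hm2)) (lt_of_lt_of_le two_pos hm2))
      linarith
    refine le_of_mul_le_mul_left ?_ hKpos
    linarith [mul_le_mul_of_nonneg_left a1 (by linarith : (0 : ℝ) ≤ m),
      mul_le_mul_of_nonneg_left a2 (by linarith : (0 : ℝ) ≤ m - 1)]
  have hsum : (∑ g : G, T g) * (n : ℂ) = (Nat.card G : ℂ) * (X : ℂ) * (X : ℂ) := by
    simp only [T]
    rw [Finset.sum_comm, Finset.sum_congr rfl fun a _ => Finset.sum_comm]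
    simp only [Blocks.sum_char_conj_mul, hn, ← Finset.sum_mul, ← Finset.mul_sum,
      ← Finset.sum_div, ← hXc]
    have hn0 : (n : ℂ) ≠ 0 := hn ▸ apply_one_ne_zero χ
    field_simp
  have hre := congrArg Complex.re hsum
  simp only [Complex.mul_re, Complex.natCast_re, Complex.natCast_im, Complex.ofReal_re,
    Complex.ofReal_im, mul_zero, sub_zero, zero_mul, Complex.re_sum, add_zero,
    Complex.mul_im] at hre
  have hG : (0 : ℝ) < Nat.card G := Nat.cast_pos.mpr Nat.card_pos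
  have hav : (Nat.card G : ℝ) * (m ^ 2 * (X - n)) ≤ (m - 1) * ∑ g : G, (T g).re := by
    have h := Finset.sum_le_sum (s := Finset.univ) fun g (_ : g ∈ Finset.univ) => hT g
    rw [Finset.sum_const, Finset.card_univ, nsmul_eq_mul, ← Nat.card_eq_fintype_card,
      ← Finset.mul_sum] at h
    exact h
  have hprod : 0 ≤ ((m - 1) * X - m * n) * (X - m * n) := by
    refine le_of_mul_le_mul_left ?_ hG
    have := mul_le_mul_of_nonneg_right hav (Nat.cast_nonneg n : (0 : ℝ) ≤ n)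
    rw [mul_assoc (m - 1), hre] at this
    linarith
  rcases le_total ((m - 1) * X) (m * n) with h | h
  · exact Or.inl h
  · rcases eq_or_lt_of_le h with h' | h'
    · exact Or.inl h'.ge
    · exact Or.inr (sub_nonneg.mp (nonneg_of_mul_nonneg_right hprod (sub_pos.mpr h')))

end Cfsg.Agent.Lib.ExtremeP
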