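import Cfsg.Prelude.Def_SubgroupEmbedding
import Cfsg.Agent.S3020
import Cfsg.Agent.S3021
import Cfsg.Agent.Lib.ExtremeP.Prelim

/-!
# Extremely closed abelian `p`-subgroups: the pair `(K, k)` of an element, subgroups, quotients

Adapted from the case `p = 2` (`Lib/ExtremelyClosed`, helper73).
-/

set_option autoImplicit false
set_option linter.unusedSectionVars false
set_option linter.style.haveILetI false

open scoped Pointwise

namespace Cfsg.Agent.Lib.ExtremeP

universe u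

variable {G : Type u} [Group G] [Finite G] {p : ℕ} [hp : Fact p.Prime] {H : Subgroup G}

/-- An extremely closed abelian `p`-subgroup. -/
structure Hyp (p : ℕ) (H : Subgroup G) : Prop where
  pgroup : IsPGroup p H
  comm : IsMulCommutative H
  closed : Cfsg.IsExtremelyClosed H

theorem Hyp.commute (hh : Hyp p H) {a b : G} (ha : a ∈ H) (hb : b ∈ H) : Commute a b :=
  haveI := hh.comm
  congrArg Subtype.val (mul_comm' (⟨a, ha⟩ : H) ⟨b, hb⟩)

theorem not_dvd_orderOf {L : Subgroup G} (hL : ¬ p ∣ Nat.card L) {x : G} (hx : x ∈ L) :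
    ¬ p ∣ orderOf x :=
  fun h => hL (h.trans (Subgroup.orderOf_dvd_natCard L hx))

theorem eq_one_of_mem_both {L : Subgroup G} (hH : IsPGroup p H) (hL : ¬ p ∣ Nat.card L) {x : G}
    (hxH : x ∈ H) (hxL : x ∈ L) : x = 1 := by
  obtain ⟨j, hj⟩ := pow_orderOf_of_pgroup hH hxH
  rcases Nat.eq_zero_or_pos j with rfl | hj0
  · exact orderOf_eq_one_iff.mp (by simpa using hj)
  · exact absurd (hj ▸ dvd_pow_self p hj0.ne') (not_dvd_orderOf hL hxL)

/-- In `H ⊔ L` with `H` normalising the `p'`-group `L`, `p'`-elements lie in `L`. -/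
theorem mem_of_pprime {L : Subgroup G} (hH : IsPGroup p H)
    (hL : H ≤ Subgroup.normalizer (L : Set G)) {x : G} (hx : x ∈ H ⊔ L) (ho : ¬ p ∣ orderOf x) :
    x ∈ L := by
  have hle : H ⊔ L ≤ Subgroup.normalizer (L : Set G) := sup_le hL Subgroup.le_normalizer
  let π := QuotientGroup.mk' (L.subgroupOf (Subgroup.normalizer (L : Set G)))
  have hx' : x ∈ ((H : Set G) * (L : Set G)) := by
    rw [← Subgroup.coe_mul_of_left_le_normalizer_right H L hL]
    exact hx
  obtain ⟨h, hh, l, hl, hxe⟩ := hx'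
  have e : π ⟨x, hle hx⟩ = π ⟨h, hL hh⟩ := by
    refine QuotientGroup.eq.2 (Subgroup.mem_subgroupOf.2 ?_)
    show x⁻¹ * h ∈ L
    rw [← hxe]
    simpa [mul_assoc] using inv_mem hl
  obtain ⟨j, hj⟩ := pow_orderOf_of_pgroup hH hh
  have h1 : orderOf (π ⟨x, hle hx⟩) ∣ p ^ j := by
    rw [e]
    exact (orderOf_map_dvd π _).trans (by rw [Subgroup.orderOf_mk, hj])
  have h2 : orderOf (π ⟨x, hle hx⟩) ∣ orderOf x :=
    (orderOf_map_dvd π _).trans (by rw [Subgroup.orderOf_mk])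
  have h3 := orderOf_eq_one_iff.1
    (Nat.eq_one_of_dvd_coprimes ((hp.out.coprime_iff_not_dvd.mpr ho).pow_left j) h1 h2)
  exact Subgroup.mem_subgroupOf.1 ((QuotientGroup.eq_one_iff _).1 h3)

theorem conj_mem_iff {g x : G} {K : Subgroup G} :
    x ∈ K.map (MulAut.conj g).toMonoidHom ↔ g⁻¹ * x * g ∈ K := by
  constructor
  · rintro ⟨y, hy, rfl⟩
    simpa [mul_assoc] using hy
  · intro h
    exact ⟨_, h, by simp [mul_assoc]⟩

theorem conj_mem_map {g x : G} {K : Subgroup G} (hx : x ∈ K) :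
    g * x * g⁻¹ ∈ K.map (MulAut.conj g).toMonoidHom :=
  ⟨x, hx, by simp⟩

/-- The data of `H` and `g`. -/
structure Pair (p : ℕ) (H : Subgroup G) (g : G) (K : Subgroup G) (k : G) : Prop where
  pprime : ¬ p ∣ Nat.card K
  mem : k ∈ K
  conj : k⁻¹ * g ∈ Subgroup.normalizer (H : Set G)
  le_normalizer : H ≤ Subgroup.normalizer (K : Set G)
  sup : H ⊔ H.map (MulAut.conj g).toMonoidHom = H ⊔ K
  inf : K ⊓ Subgroup.normalizer (H : Set G) = ⊥

theorem exists_pair (hh : Hyp p H) (g : G) : ∃ (K : Subgroup G) (k : G), Pair p H g K k := by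
  set T := H ⊔ H.map (MulAut.conj g).toMonoidHom with hT
  set K := (Cfsg.pPrimeCore p ↥T).map T.subtype with hKdef
  obtain ⟨hsup, hinf⟩ := Cfsg.Agent.S3020.result H hh.pgroup hh.comm hh.closed g T hT
  rw [← hKdef] at hsup hinf
  have hK : ¬ p ∣ Nat.card K := by
    rw [hKdef, Subgroup.card_subtype]
    exact hp.out.coprime_iff_not_dvd.mp (Cfsg.Agent.Lib.Cores.pPrimeCore_coprime p).symm
  have hHT : H ≤ T := le_sup_left
  have hTK : T ≤ Subgroup.normalizer (K : Set G) := by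
    intro t ht
    refine Subgroup.mem_normalizer_fintype fun a ha => ?_
    obtain ⟨b, hb, rfl⟩ := ha
    exact ⟨(⟨t, ht⟩ : ↥T) * b * (⟨t, ht⟩ : ↥T)⁻¹,
      Subgroup.Normal.conj_mem inferInstance b hb _, rfl⟩
  have hHK : H ≤ Subgroup.normalizer (K : Set G) := hHT.trans hTK
  have hinf' : K ⊓ Subgroup.normalizer (H : Set G) = ⊥ := by
    rw [eq_bot_iff]
    rintro x ⟨hxK, hxN⟩
    have hxT : x ∈ T ⊓ Subgroup.normalizer (H : Set G) := ⟨hsup ▸ Subgroup.mem_sup_right hxK, hxN⟩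
    rw [hh.closed g] at hxT
    exact hinf ▸ ⟨hxT, hxK⟩
  -- `H` is a Sylow subgroup of `T`, as is its conjugate
  obtain ⟨P, hP⟩ := (hh.pgroup.comap_subtype (K := T)).exists_le_sylow
  have hPeq : H.subgroupOf T = (P : Subgroup ↥T) := by
    refine Cfsg.Agent.Lib.LAEven57.eq_of_normalizer_le P.isPGroup' hP fun y _ hy => ?_
    have hyN : (y : G) ∈ Subgroup.normalizer (H : Set G) :=
      Subgroup.mem_normalizer_fintype fun a ha =>
        (Subgroup.mem_normalizer_iff.mp hy ⟨a, hHT ha⟩).mp ha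
    have : (y : G) ∈ T ⊓ Subgroup.normalizer (H : Set G) := ⟨y.2, hyN⟩
    rw [hh.closed g] at this
    exact this
  have hgT : H.map (MulAut.conj g).toMonoidHom ≤ T := le_sup_right
  have hgp : IsPGroup p ↥(H.map (MulAut.conj g).toMonoidHom) := hh.pgroup.map _
  obtain ⟨Q, hQ⟩ := (hgp.comap_subtype (K := T)).exists_le_sylow
  obtain ⟨t, ht⟩ := MulAction.exists_smul_eq ↥T P Q
  have hsub : H.map (MulAut.conj g).toMonoidHom ≤ H.map (MulAut.conj (t : G)).toMonoidHom := by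
    intro x hx
    have hxQ : (⟨x, hgT hx⟩ : ↥T) ∈ (Q : Subgroup ↥T) := hQ hx
    rw [← ht, Sylow.coe_subgroup_smul] at hxQ
    obtain ⟨y, hy, hyx⟩ := hxQ
    refine ⟨(y : G), ?_, congrArg Subtype.val hyx⟩
    have hy' : y ∈ (P : Subgroup ↥T) := hy
    rw [← hPeq] at hy'
    exact hy'
  have heq := Subgroup.eq_of_le_of_card_ge hsub (le_of_eq (by
    rw [Subgroup.card_map_of_injective (MulEquiv.injective _),
      Subgroup.card_map_of_injective (MulEquiv.injective _)]))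
  have htK : (t : G) ∈ ((K : Set G) * (H : Set G)) := by
    have h1 : (t : G) ∈ H ⊔ K := hsup.symm ▸ t.2
    rw [sup_comm, ← SetLike.mem_coe, Subgroup.coe_mul_of_right_le_normalizer_left K H hHK] at h1
    exact h1
  obtain ⟨k, hk, h0, hh0, hte⟩ := htK
  refine ⟨K, k, hK, hk, ?_, hHK, hsup.symm, hinf'⟩
  refine Subgroup.mem_normalizer_fintype fun a ha => ?_
  have h1 : g * a * g⁻¹ ∈ H.map (MulAut.conj (t : G)).toMonoidHom := heq ▸ conj_mem_map ha
  rw [conj_mem_iff, ← hte] at h1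
  have h2 : h0 * ((k * h0)⁻¹ * (g * a * g⁻¹) * (k * h0)) * h0⁻¹ ∈ H :=
    mul_mem (mul_mem hh0 h1) (inv_mem hh0)
  simpa [mul_assoc] using h2

theorem Pair.mem_iff (hH : IsPGroup p H) {g k : G} {K : Subgroup G} (pr : Pair p H g K k) {x : G} :
    x ∈ K ↔ x ∈ H ⊔ H.map (MulAut.conj g).toMonoidHom ∧ ¬ p ∣ orderOf x := by
  rw [pr.sup]
  exact ⟨fun h => ⟨Subgroup.mem_sup_right h, not_dvd_orderOf pr.pprime h⟩,
    fun h => mem_of_pprime hH pr.le_normalizer h.1 h.2⟩

/-! ### Subgroups -/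

theorem mem_normalizer_subgroupOf {L : Subgroup G} (hHL : H ≤ L) {x : ↥L} :
    x ∈ Subgroup.normalizer ((H.subgroupOf L : Subgroup ↥L) : Set ↥L) ↔
      (x : G) ∈ Subgroup.normalizer (H : Set G) := by
  constructor
  · intro hx
    exact Subgroup.mem_normalizer_fintype fun a ha =>
      (Subgroup.mem_normalizer_iff.mp hx ⟨a, hHL ha⟩).mp ha
  · intro hx
    refine Subgroup.mem_normalizer_iff.2 fun a => ?_
    simpa [Subgroup.mem_subgroupOf] using Subgroup.mem_normalizer_iff.1 hx (a : G)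

theorem Hyp.subgroupOf (hh : Hyp p H) {L : Subgroup G} (hHL : H ≤ L) :
    Hyp p (H.subgroupOf L) := by
  refine ⟨hh.pgroup.comap_subtype,
    ⟨⟨fun a b => Subtype.ext (Subtype.ext (hh.commute a.2 b.2).eq)⟩⟩,
    fun g => le_antisymm ?_ (le_inf le_sup_left Subgroup.le_normalizer)⟩
  rintro x ⟨hx, hxN⟩
  have hle : H.subgroupOf L ⊔ (H.subgroupOf L).map (MulAut.conj g).toMonoidHom ≤
      (H ⊔ H.map (MulAut.conj (g : G)).toMonoidHom).subgroupOf L := by
    refine sup_le (fun a ha => Subgroup.mem_subgroupOf.2 (Subgroup.mem_sup_left ha)) ?_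
    rintro _ ⟨a, ha, rfl⟩
    exact Subgroup.mem_subgroupOf.2 (Subgroup.mem_sup_right ⟨(a : G), ha, rfl⟩)
  have h2 : (x : G) ∈ (H ⊔ H.map (MulAut.conj (g : G)).toMonoidHom) ⊓
      Subgroup.normalizer (H : Set G) := ⟨hle hx, (mem_normalizer_subgroupOf hHL).1 hxN⟩
  rw [hh.closed] at h2
  exact h2

/-! ### Quotients -/

variable {M : Subgroup G} [M.Normal]

/-- The image in `G ⧸ M`. -/
abbrev himg (H M : Subgroup G) [M.Normal] : Subgroup (G ⧸ M) := H.map (QuotientGroup.mk' M)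

theorem conj_mem_sup_of_normalizer {g a : G}
    (hg : QuotientGroup.mk' M g ∈ Subgroup.normalizer ((himg H M : Subgroup (G ⧸ M)) : Set (G ⧸ M)))
    (ha : a ∈ H) : g * a * g⁻¹ ∈ H ⊔ M := by
  have h1 := (Subgroup.mem_normalizer_iff.1 hg (QuotientGroup.mk' M a)).1 ⟨a, ha, rfl⟩
  rw [← map_inv, ← map_mul, ← map_mul] at h1
  have h2 : g * a * g⁻¹ ∈ (himg H M).comap (QuotientGroup.mk' M) := h1
  rwa [Subgroup.comap_map_eq, QuotientGroup.ker_mk'] at h2

theorem mk_mem_normalizer {g : G} (hg : g ∈ Subgroup.normalizer (H : Set G)) :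
    QuotientGroup.mk' M g ∈ Subgroup.normalizer ((himg H M : Subgroup (G ⧸ M)) : Set (G ⧸ M)) :=
  Subgroup.le_normalizer_map _ ⟨g, hg, rfl⟩

/-- Transfer of the hypothesis to a quotient, given how the normaliser lifts. -/
theorem Hyp.quot (hh : Hyp p H)
    (hlift : ∀ (g x : G), x ∈ H ⊔ H.map (MulAut.conj g).toMonoidHom →
      QuotientGroup.mk' M x ∈ Subgroup.normalizer ((himg H M : Subgroup (G ⧸ M)) : Set (G ⧸ M)) →
      x ∈ H ⊔ M) : Hyp p (himg H M) := by
  refine ⟨hh.pgroup.map _, ?_, fun q => le_antisymm ?_ (le_inf le_sup_left Subgroup.le_normalizer)⟩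
  · refine ⟨⟨?_⟩⟩
    rintro ⟨_, a, ha, rfl⟩ ⟨_, b, hb, rfl⟩
    exact Subtype.ext (((hh.commute ha hb).map (QuotientGroup.mk' M)).eq)
  obtain ⟨g, rfl⟩ := QuotientGroup.mk'_surjective M q
  rintro x ⟨hx, hxN⟩
  have hle : himg H M ⊔
      (himg H M).map (MulAut.conj (QuotientGroup.mk' M g)).toMonoidHom ≤
      (H ⊔ H.map (MulAut.conj g).toMonoidHom).map (QuotientGroup.mk' M) := by
    refine sup_le (Subgroup.map_mono le_sup_left) ?_
    rintro _ ⟨_, ⟨a, ha, rfl⟩, rfl⟩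
    exact ⟨g * a * g⁻¹, Subgroup.mem_sup_right (conj_mem_map ha), by simp⟩
  obtain ⟨y, hy, rfl⟩ := hle hx
  have h1 := hlift g y hy hxN
  have h2 : y ∈ (himg H M).comap (QuotientGroup.mk' M) := by
    rw [Subgroup.comap_map_eq, QuotientGroup.ker_mk']
    exact h1
  exact h2

section pprime

variable (hh : Hyp p H) (hM : ¬ p ∣ Nat.card M)
include hh hM

theorem complement_le {g : G} {K : Subgroup G} {k : G} (pr : Pair p H g K k)
    (hg : ∀ a ∈ H, g * a * g⁻¹ ∈ H ⊔ M) : K ≤ M := by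
  intro x hx
  have hx' := (pr.mem_iff hh.pgroup).1 hx
  have hle : H ⊔ H.map (MulAut.conj g).toMonoidHom ≤ H ⊔ M := by
    refine sup_le le_sup_left fun b hb => ?_
    obtain ⟨a, ha, rfl⟩ := hb
    simpa using hg a ha
  exact mem_of_pprime hh.pgroup Subgroup.le_normalizer_of_normal (hle hx'.1) hx'.2

/-- The preimage of the normaliser is `N_G(H) M`. -/
theorem mem_of_mk_mem_normalizer {g : G}
    (hg : QuotientGroup.mk' M g ∈ Subgroup.normalizer ((himg H M : Subgroup (G ⧸ M)) : Set (G ⧸ M))) :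
    g ∈ Subgroup.normalizer (H : Set G) ⊔ M := by
  obtain ⟨K, k, pr⟩ := exists_pair hh g
  have hk := complement_le hh hM pr (fun a ha => conj_mem_sup_of_normalizer hg ha) pr.mem
  have := mul_mem (Subgroup.mem_sup_right (S := Subgroup.normalizer (H : Set G)) hk)
    (Subgroup.mem_sup_left pr.conj)
  simpa using this

theorem Hyp.quot_pprime : Hyp p (himg H M) := by
  refine hh.quot fun g x hx hxN => ?_
  obtain ⟨K, k, pr⟩ := exists_pair hh g
  have hx' : x ∈ ((H : Set G) * (K : Set G)) := by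
    rw [← Subgroup.coe_mul_of_left_le_normalizer_right H K pr.le_normalizer, ← pr.sup]
    exact hx
  obtain ⟨h, hmem, k₀, hk₀, rfl⟩ := hx'
  refine mul_mem (Subgroup.mem_sup_left hmem) (Subgroup.mem_sup_right ?_)
  have hk₀N : QuotientGroup.mk' M k₀ ∈
      Subgroup.normalizer ((himg H M : Subgroup (G ⧸ M)) : Set (G ⧸ M)) := by
    have h1 := mul_mem
      (Subgroup.inv_mem _ (mk_mem_normalizer (M := M) (Subgroup.le_normalizer hmem))) hxN
    simpa [map_mul] using h1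
  obtain ⟨K', k', pr'⟩ := exists_pair hh k₀
  have hk'M : k' ∈ M :=
    complement_le hh hM pr' (fun a ha => conj_mem_sup_of_normalizer hk₀N ha) pr'.mem
  have hk'K : k' ∈ K := by
    have h1 := (pr'.mem_iff hh.pgroup).1 pr'.mem
    refine (pr.mem_iff hh.pgroup).2 ⟨?_, h1.2⟩
    have hkT : k₀ ∈ H ⊔ H.map (MulAut.conj g).toMonoidHom := pr.sup ▸ Subgroup.mem_sup_right hk₀
    have hle : H ⊔ H.map (MulAut.conj k₀).toMonoidHom ≤ H ⊔ H.map (MulAut.conj g).toMonoidHom := by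
      refine sup_le le_sup_left ?_
      rintro _ ⟨a, ha, rfl⟩
      simpa using mul_mem (mul_mem hkT (Subgroup.mem_sup_left ha)) (inv_mem hkT)
    exact hle h1.1
  have h0 : k'⁻¹ * k₀ = 1 := by
    rw [← Subgroup.mem_bot, ← pr.inf]
    exact ⟨Subgroup.mul_mem _ (Subgroup.inv_mem _ hk'K) hk₀, pr'.conj⟩
  rw [← inv_mul_eq_one.1 h0]
  exact hk'M

end pprime

section inside

variable (hh : Hyp p H) (hMH : M ≤ H)
include hh hMH

theorem mem_normalizer_of_mk {g : G}
    (hg : QuotientGroup.mk' M g ∈ Subgroup.normalizer ((himg H M : Subgroup (G ⧸ M)) : Set (G ⧸ M))) :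
    g ∈ Subgroup.normalizer (H : Set G) :=
  Subgroup.mem_normalizer_fintype fun a ha => by
    have h1 := conj_mem_sup_of_normalizer hg ha
    rwa [sup_eq_left.2 hMH] at h1

theorem Hyp.quot_inside : Hyp p (himg H M) := by
  refine hh.quot fun g x hx hxN => ?_
  have h1 : x ∈ (H ⊔ H.map (MulAut.conj g).toMonoidHom) ⊓ Subgroup.normalizer (H : Set G) :=
    ⟨hx, mem_normalizer_of_mk hh hMH hxN⟩
  rw [hh.closed] at h1
  exact Subgroup.mem_sup_left h1

end inside

end Cfsg.Agent.Lib.ExtremeP
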