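import Cfsg.Agent.S0942
import Cfsg.Agent.Lib.ExtremeP.Pair
import Cfsg.Agent.Lib.Blocks.Orthogonality

/-!
# Local information and the two standard reductions
-/

set_option autoImplicit false
set_option linter.unusedSectionVars false
set_option linter.style.haveILetI false

open scoped Pointwise

namespace Cfsg.Agent.Lib.ExtremeP

universe u

variable {G : Type u} [Group G] [Finite G] {p : ℕ} [hp : Fact p.Prime] {H : Subgroup G}

/-- The conclusion `G = N_G(H) O_{p'}(G)`. -/
def Conclusion (p : ℕ) (H : Subgroup G) : Prop :=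
  Subgroup.normalizer (H : Set G) ⊔ Cfsg.pPrimeCore p G = ⊤

theorem normal_of_core_bot (hO : Cfsg.pPrimeCore p G = ⊥) (h : Conclusion p H) :
    Subgroup.normalizer (H : Set G) = ⊤ := by
  rwa [Conclusion, hO, sup_bot_eq] at h

variable (hh : Hyp p H)
include hh

/-- `C_K(c)` lies in `O_{p'}(C_G(c))`. -/
theorem mem_core {c : G} (hc : c ∈ H)
    (hloc : Conclusion p (H.subgroupOf (Subgroup.centralizer ({c} : Set G))))
    {g k : G} {K : Subgroup G} (pr : Pair p H g K k) {v : G} (hv : v ∈ K) (hvc : Commute v c) :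
    v ∈ Cfsg.centralizerPPrimeCore p c := by
  set C := Subgroup.centralizer ({c} : Set G) with hC
  set O := Cfsg.centralizerPPrimeCore p c with hOdef
  have hHC : H ≤ C := fun x hx =>
    Subgroup.mem_centralizer_singleton_iff.2 (hh.commute hx hc).eq
  have hvC : v ∈ C := Subgroup.mem_centralizer_singleton_iff.2 hvc.eq
  have hHO : H ≤ Subgroup.normalizer (O : Set G) :=
    hHC.trans (Balance.centralizer_le_normalizer_centralizerPPrimeCore (p := p) c)
  obtain ⟨y, hy, n, hn, hyn⟩ : ∃ y ∈ O, ∃ n ∈ Subgroup.normalizer (H : Set G), y * n = v := by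
    have h1 : (⟨v, hvC⟩ : C) ∈
        Cfsg.pPrimeCore p C ⊔ Subgroup.normalizer ((H.subgroupOf C : Subgroup C) : Set C) := by
      rw [sup_comm, show _ ⊔ Cfsg.pPrimeCore p C = ⊤ from hloc]; trivial
    obtain ⟨y, hy, n, hn, hyn⟩ := Subgroup.mem_sup_of_normal_left.1 h1
    exact ⟨y, ⟨y, hy, rfl⟩, n, (mem_normalizer_subgroupOf hHC).1 hn, congrArg Subtype.val hyn⟩
  obtain ⟨K', k', pr'⟩ := exists_pair hh v
  have hconjO : H.map (MulAut.conj v).toMonoidHom ≤ H ⊔ O := by
    rintro _ ⟨a, ha, rfl⟩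
    have h1 : n * a * n⁻¹ ∈ H := (Subgroup.mem_normalizer_iff.1 hn a).1 ha
    have h2 : (MulAut.conj v).toMonoidHom a = y * (n * a * n⁻¹) * y⁻¹ := by
      simp [← hyn, mul_assoc]
    rw [h2]
    exact mul_mem (mul_mem (Subgroup.mem_sup_right hy) (Subgroup.mem_sup_left h1))
      (inv_mem (Subgroup.mem_sup_right hy))
  have hconjK : H.map (MulAut.conj v).toMonoidHom ≤ H ⊔ K := by
    rintro _ ⟨a, ha, rfl⟩
    simpa using mul_mem (mul_mem (Subgroup.mem_sup_right hv) (Subgroup.mem_sup_left ha))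
      (inv_mem (Subgroup.mem_sup_right hv))
  have hk' := (pr'.mem_iff hh.pgroup).1 pr'.mem
  have hk'O : k' ∈ O :=
    mem_of_pprime hh.pgroup hHO (sup_le le_sup_left hconjO hk'.1) hk'.2
  have hk'K : k' ∈ K :=
    mem_of_pprime hh.pgroup pr.le_normalizer (sup_le le_sup_left hconjK hk'.1) hk'.2
  have h0 : k'⁻¹ * v = 1 := by
    rw [← Subgroup.mem_bot, ← pr.inf]
    exact ⟨Subgroup.mul_mem _ (Subgroup.inv_mem _ hk'K) hv, pr'.conj⟩
  rwa [← inv_mul_eq_one.1 h0]

/-- On `K c` the characters of the principal block take the value at `c`. -/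
theorem char_value {M : Ideal Cfsg.AlgInt} (hM : Cfsg.IsPModular p M) {c : G} (hc : c ∈ H)
    (hloc : Conclusion p (H.subgroupOf (Subgroup.centralizer ({c} : Set G))))
    {g k : G} {K : Subgroup G} (pr : Pair p H g K k) {u : G} (hu : u * c⁻¹ ∈ K)
    {χ : Cfsg.IrrCharacter G} (hχ : χ ∈ Cfsg.principalBlock M G) :
    (χ : G → ℂ) u = (χ : G → ℂ) c := by
  have hord := pow_orderOf_of_pgroup hh.pgroup hc
  obtain ⟨x, -, v, hv, hvc, hxu⟩ := exists_conj_section pr.pprime hord (pr.le_normalizer hc) hu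
  have h1 := Cfsg.Agent.S0942.result p M hM c hord v (mem_core hh hc hloc pr hv hvc) χ hχ
  rw [← hvc.eq, ← hxu, Blocks.char_conj_apply] at h1
  exact h1

/-- With a nontrivial core, reduce to the quotient. -/
theorem of_core (hO : Cfsg.pPrimeCore p G ≠ ⊥)
    (ih : ∀ (Q : Type u) [Group Q] [Finite Q] (J : Subgroup Q),
      Nat.card Q < Nat.card G → Hyp p J → Conclusion p J) : Conclusion p H := by
  haveI : (Cfsg.pPrimeCore p G).Normal := inferInstance
  have hp' : ¬ p ∣ Nat.card (Cfsg.pPrimeCore p G) :=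
    hp.out.coprime_iff_not_dvd.mp (Cores.pPrimeCore_coprime p).symm
  have hlt : Nat.card (G ⧸ Cfsg.pPrimeCore p G) < Nat.card G := by
    rw [Subgroup.card_eq_card_quotient_mul_card_subgroup (Cfsg.pPrimeCore p G)]
    exact lt_mul_of_one_lt_right Nat.card_pos ((Subgroup.one_lt_card_iff_ne_bot _).2 hO)
  have hQ := normal_of_core_bot (Cores.pPrimeCore_quotient_pPrimeCore p)
    (ih _ (himg H (Cfsg.pPrimeCore p G)) hlt (hh.quot_pprime hp'))
  rw [Conclusion, eq_top_iff]
  exact fun g _ => mem_of_mk_mem_normalizer hh hp'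
    (hQ.symm ▸ Subgroup.mem_top (QuotientGroup.mk' (Cfsg.pPrimeCore p G) g))

/-- With a central element of order `p` in `H`, reduce to the quotient. -/
theorem of_central (hO : Cfsg.pPrimeCore p G = ⊥) {a : G} (ha : a ∈ H) (hap : orderOf a = p)
    (hc : a ∈ Subgroup.center G)
    (ih : ∀ (Q : Type u) [Group Q] [Finite Q] (J : Subgroup Q),
      Nat.card Q < Nat.card G → Hyp p J → Conclusion p J) : Conclusion p H := by
  set Z := Subgroup.zpowers a with hZ
  have hcomm : ∀ z ∈ Z, ∀ g : G, Commute z g := fun z hz g => by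
    obtain ⟨i, rfl⟩ := Subgroup.mem_zpowers_iff.1 hz
    exact (show Commute a g from (Subgroup.mem_center_iff.1 hc g).symm).zpow_left i
  haveI : Z.Normal := ⟨fun x hx g => by rwa [← (hcomm x hx g).eq, mul_inv_cancel_right]⟩
  have hZH : Z ≤ H := Subgroup.zpowers_le.2 ha
  have hZcard : Nat.card Z = p := by rw [Nat.card_zpowers, hap]
  have hcard := Subgroup.card_eq_card_quotient_mul_card_subgroup Z
  have hlt : Nat.card (G ⧸ Z) < Nat.card G := by
    rw [hcard, hZcard]
    exact lt_mul_of_one_lt_right Nat.card_pos hp.out.one_lt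
  have hconc := ih (G ⧸ Z) (himg H Z) hlt (hh.quot_inside hZH)
  have hQ : Cfsg.pPrimeCore p (G ⧸ Z) = ⊥ := by
    set R := (Cfsg.pPrimeCore p (G ⧸ Z)).comap (QuotientGroup.mk' Z) with hR
    haveI : R.Normal := Subgroup.Normal.comap inferInstance _
    have hcore : (Nat.card (Cfsg.pPrimeCore p (G ⧸ Z))).Coprime p := Cores.pPrimeCore_coprime p
    have hZR : Z ≤ R := fun x hx => by
      show QuotientGroup.mk' Z x ∈ Cfsg.pPrimeCore p (G ⧸ Z)
      rw [QuotientGroup.mk'_apply, (QuotientGroup.eq_one_iff x).2 hx]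
      exact one_mem _
    have hidx : (Z.subgroupOf R).index = Nat.card (Cfsg.pPrimeCore p (G ⧸ Z)) := by
      have h1 : Nat.card R = Nat.card Z * Nat.card (Cfsg.pPrimeCore p (G ⧸ Z)) :=
        QuotientGroup.card_preimage_mk Z (Cfsg.pPrimeCore p (G ⧸ Z) : Set (G ⧸ Z))
      have h2 := Subgroup.card_mul_index (Z.subgroupOf R)
      rw [Nat.card_congr (Subgroup.subgroupOfEquivOfLe hZR).toEquiv, h1] at h2
      exact Nat.eq_of_mul_eq_mul_left (by rw [hZcard]; exact hp.out.pos) h2
    obtain ⟨L, hL⟩ := Subgroup.exists_right_complement'_of_coprime (N := Z.subgroupOf R) (by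
      rw [Nat.card_congr (Subgroup.subgroupOfEquivOfLe hZR).toEquiv, hidx, hZcard]
      exact hcore.symm)
    set L' := L.map R.subtype with hL'
    have hLp : ¬ p ∣ Nat.card L' := by
      rw [hL', Subgroup.card_subtype, ← hL.symm.index_eq_card, hidx]
      exact hp.out.coprime_iff_not_dvd.mp hcore.symm
    have hsplit : ∀ x ∈ R, x ∈ Z ⊔ L' := by
      intro x hx
      obtain ⟨⟨z, l⟩, hzl, -⟩ := hL.existsUnique (⟨x, hx⟩ : ↥R)
      rw [← show ((z : ↥R) : G) * ((l : ↥R) : G) = x from congrArg Subtype.val hzl]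
      exact mul_mem (Subgroup.mem_sup_left z.2) (Subgroup.mem_sup_right ⟨_, l.2, rfl⟩)
    have hnorm : Z ≤ Subgroup.normalizer (L' : Set G) := fun z hz =>
      Subgroup.mem_normalizer_fintype fun l hl => by
        rwa [(hcomm z hz l).eq, mul_inv_cancel_right]
    haveI : L'.Normal := ⟨fun l hl g => by
      refine mem_of_pprime (hh.pgroup.to_le hZH) hnorm
        (hsplit _ (‹R.Normal›.conj_mem l (Subgroup.map_subtype_le L hl) g)) ?_
      rw [show orderOf (g * l * g⁻¹) = orderOf l from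
        orderOf_injective (MulAut.conj g).toMonoidHom (MulEquiv.injective _) l]
      exact not_dvd_orderOf hLp hl⟩
    have hL1 : L' = ⊥ :=
      le_bot_iff.1 ((Cores.le_pPrimeCore_of_not_dvd hLp).trans hO.le)
    rw [eq_bot_iff]
    intro q hq
    obtain ⟨x, rfl⟩ := QuotientGroup.mk'_surjective Z q
    have hxZ : x ∈ Z := by simpa [hL1] using hsplit x hq
    exact Subgroup.mem_bot.2 ((QuotientGroup.eq_one_iff x).2 hxZ)
  have hN := normal_of_core_bot hQ hconc
  rw [Conclusion, eq_top_iff]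
  exact fun g _ => Subgroup.mem_sup_left
    (mem_normalizer_of_mk hh hZH (hN.symm ▸ Subgroup.mem_top (QuotientGroup.mk' Z g)))

end Cfsg.Agent.Lib.ExtremeP
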