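import Cfsg.Agent.Lib.Blocks.Orthogonality
import Cfsg.Agent.Lib.BrauerMap.PrincipalSection
import Cfsg.Agent.Lib.PrincipalCore.Basic

/-!
# `|H|` is at most the principal block sum `∑ |χ(a)|²` for `a ∈ H`, `H` abelian
-/

set_option autoImplicit false
set_option linter.unusedSectionVars false
set_option linter.style.haveILetI false

open scoped ComplexConjugate

namespace Cfsg.Agent.Lib.ExtremeP

open Cfsg.Agent.Lib.Characters Cfsg.Agent.Lib.Characters.Basic

universe u

variable {G : Type u} [Group G] [Finite G] {p : ℕ} [hp : Fact p.Prime]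

/-- The principal block sum of `|χ(a)|²`. -/
noncomputable def blockNorm (M : Ideal Cfsg.AlgInt) (a : G) : ℝ :=
  ∑ᶠ χ ∈ Cfsg.principalBlock M G, Complex.normSq ((χ : G → ℂ) a)

theorem coe_blockNorm (M : Ideal Cfsg.AlgInt) (a : G) :
    (blockNorm M a : ℂ) = ∑ᶠ χ ∈ Cfsg.principalBlock M G, (χ : G → ℂ) a * (χ : G → ℂ) a⁻¹ := by
  classical
  rw [blockNorm, finsum_mem_eq_finite_toFinset_sum _ (Set.toFinite _),
    finsum_mem_eq_finite_toFinset_sum _ (Set.toFinite _), Complex.ofReal_sum]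
  exact Finset.sum_congr rfl fun χ _ => by
    rw [apply_inv (isCharacter_irr χ), Complex.mul_conj]

theorem blockNorm_eq_of_isConj (M : Ideal Cfsg.AlgInt) {a b : G} (h : IsConj a b) :
    blockNorm M a = blockNorm M b :=
  finsum_congr fun χ => finsum_congr fun _ => by
    rw [classFunction_apply_of_isConj (isClassFunction_irr χ) h]

theorem card_le_blockNorm {M : Ideal Cfsg.AlgInt} (hM : Cfsg.IsPModular p M) {H : Subgroup G}
    (hHp : IsPGroup p H) (hHab : IsMulCommutative H) {a : G} (ha : a ∈ H) :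
    (Nat.card H : ℝ) ≤ blockNorm M a := by
  classical
  haveI := hM.2.1
  set C := Subgroup.centralizer ({a} : Set G) with hC
  have hHC : H ≤ C := fun h hh => Subgroup.mem_centralizer_singleton_iff.mpr
    (congrArg Subtype.val (mul_comm' (⟨h, hh⟩ : H) ⟨a, ha⟩))
  set H' := H.subgroupOf C with hH'
  have hcard : Nat.card H' = Nat.card H :=
    Nat.card_congr (Subgroup.subgroupOfEquivOfLe hHC).toEquiv
  letI := Fintype.ofFinite C
  letI := Fintype.ofFinite H'
  letI := Fintype.ofFinite (Cfsg.IrrCharacter C)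
  set a' : C := ⟨a, hHC ha⟩
  have hord : ∃ k : ℕ, orderOf a = p ^ k := by
    obtain ⟨k, hk⟩ := IsPGroup.iff_orderOf.1 hHp ⟨a, ha⟩
    exact ⟨k, by rwa [Subgroup.orderOf_mk] at hk⟩
  have hsec := BrauerMap.PrincipalSection.sum_principal_section hM (z := a) a' a'
    (Blocks.isPPart_self hp.out hord) (Blocks.isPPart_self hp.out hord)
  have hcen : ∀ g : C, Commute a' g := fun g =>
    Subtype.ext (Subgroup.mem_centralizer_singleton_iff.mp g.2).symm
  set b := Finset.univ.filter fun θ : Cfsg.IrrCharacter C => θ ∈ Cfsg.principalBlock M C with hb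
  have hfin : ∀ F : Cfsg.IrrCharacter C → ℂ,
      ∑ᶠ θ ∈ Cfsg.principalBlock M C, F θ = ∑ θ ∈ b, F θ := fun F =>
    finsum_mem_eq_sum_of_inter_support_eq _ (by simp [hb])
  choose d hd0 hd using fun θ : Cfsg.IrrCharacter C => exists_degree_pos θ
  have hS : (blockNorm M a : ℂ) = ((∑ θ ∈ b, d θ * d θ : ℕ) : ℂ) := by
    rw [coe_blockNorm, show (∑ᶠ χ ∈ Cfsg.principalBlock M G,
      (χ : G → ℂ) a * (χ : G → ℂ) a⁻¹) = _ from hsec, hfin, Nat.cast_sum]
    refine Finset.sum_congr rfl fun θ _ => ?_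
    have h1 := BrauerMap.PrincipalSection.char_central_mul_mul_inv hcen θ 1
    rw [mul_one, inv_one, hd θ] at h1
    rw [Nat.cast_mul, ← h1]
  choose k hk using fun θ : Cfsg.IrrCharacter C =>
    exists_classInner_nat (isCharacter_comp H'.subtype (isCharacter_irr θ))
      (isCharacter_irr (oneChar H'))
  have hdiv : ((∑ θ ∈ b, d θ * d θ : ℕ) : ℂ) =
      ((Nat.card H' * ∑ θ ∈ b, d θ * k θ : ℕ) : ℂ) := by
    have h1 : ∑ h : H', ∑ θ ∈ b, (θ : C → ℂ) 1 * conj ((θ : C → ℂ) h) =
        ((∑ θ ∈ b, d θ * d θ : ℕ) : ℂ) := by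
      rw [Finset.sum_eq_single (1 : H')]
      · simp [hd]
      · intro h _ hh
        rw [← hfin]
        refine Blocks.weak_orthogonality hM Blocks.isPBlock_principalBlock
          (by simp [hp.out.ne_one]) ?_
        obtain ⟨j, hj⟩ := IsPGroup.iff_orderOf.1 (hHp.comap_subtype (K := C) : IsPGroup p H') h
        replace hj : orderOf (h : C) = p ^ j := (Subgroup.orderOf_coe h).trans hj
        rcases Nat.eq_zero_or_pos j with rfl | hj0
        · exact absurd (Subtype.ext (orderOf_eq_one_iff.mp (by simpa using hj))) hh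
        · exact hj ▸ dvd_pow_self p hj0.ne'
      · simp
    rw [← h1, Finset.sum_comm, Finset.mul_sum, Nat.cast_sum]
    refine Finset.sum_congr rfl fun θ _ => ?_
    have h2 : ∑ h : H', conj ((θ : C → ℂ) h) = (Nat.card H' : ℂ) * (k θ : ℂ) := by
      have h3 : conj (Cfsg.classInner ((θ : C → ℂ) ∘ H'.subtype) (oneChar H' : H' → ℂ)) =
          (k θ : ℂ) := by rw [hk θ, map_natCast]
      rw [← h3, Cfsg.classInner, map_mul, map_inv₀, map_natCast, map_sum, ← mul_assoc,
        mul_inv_cancel₀ (Nat.cast_ne_zero.mpr Nat.card_pos.ne'), one_mul]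
      simp [oneChar_apply]
    rw [← Finset.mul_sum, h2, hd θ]
    push_cast
    ring
  have hnat := Nat.cast_inj.mp hdiv
  have hS' : blockNorm M a = ((∑ θ ∈ b, d θ * d θ : ℕ) : ℝ) := by exact_mod_cast hS
  rw [hS', hnat, hcard, Nat.cast_le]
  have hpos : 0 < ∑ θ ∈ b, d θ * d θ :=
    Finset.sum_pos (fun θ _ => Nat.mul_pos (hd0 θ) (hd0 θ))
      ⟨oneChar C, Finset.mem_filter.mpr ⟨Finset.mem_univ _, PrincipalCore.Basic.oneChar_mem hM⟩⟩
  rw [hnat] at hpos
  exact Nat.le_mul_of_pos_right _ (Nat.pos_of_mul_pos_left hpos)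

end Cfsg.Agent.Lib.ExtremeP
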