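import Cfsg.Agent.Lib.ExtremeP.CaseA
import Cfsg.Agent.Lib.ExtremeP.Inequality
import Cfsg.Agent.Lib.ExtremeP.SectionSum

/-!
# `G = N_G(H) O_{p'}(G)` for an extremely closed abelian `p`-subgroup, `p` odd
-/

set_option autoImplicit false
set_option linter.unusedSectionVars false
set_option linter.style.haveILetI false

open scoped Pointwise ComplexConjugate

namespace Cfsg.Agent.Lib.ExtremeP

open Cfsg.Agent.Lib.Characters Cfsg.Agent.Lib.Characters.Basic

universe u

variable {G : Type u} [Group G] [Finite G] {p : ℕ} [hp : Fact p.Prime] {H : Subgroup G}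

theorem exists_order_p_pow (hH : IsPGroup p H) {c : G} (hc : c ∈ H) (hc1 : c ≠ 1) :
    ∃ i : ℕ, orderOf (c ^ i) = p := by
  obtain ⟨k, hk⟩ := pow_orderOf_of_pgroup hH hc
  have hk0 : k ≠ 0 := by
    rintro rfl
    exact hc1 (orderOf_eq_one_iff.mp (by simpa using hk))
  refine ⟨p ^ (k - 1), ?_⟩
  rw [orderOf_pow' _ (pow_ne_zero _ hp.out.ne_zero), hk,
    Nat.gcd_eq_right (pow_dvd_pow p (Nat.sub_le k 1)), Nat.pow_div (Nat.sub_le k 1) hp.out.pos]
  rw [show k - (k - 1) = 1 by omega, pow_one]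

/-- An element of `H` and its conjugate differ by an element of `H`, modulo the complement. -/
theorem Pair.conj_div (hh : Hyp p H) {g k : G} {K : Subgroup G} (pr : Pair p H g K k) {a : G}
    (ha : a ∈ H) :
    g * a * g⁻¹ * a⁻¹ * ((k⁻¹ * g) * a * (k⁻¹ * g)⁻¹ * a⁻¹)⁻¹ ∈ K := by
  set n := k⁻¹ * g with hn
  set w := n * a * n⁻¹ with hw
  have hwH : w ∈ H := (Subgroup.mem_normalizer_iff.1 pr.conj a).1 ha
  have e : g * a * g⁻¹ * a⁻¹ * (w * a⁻¹)⁻¹ = k * (w * k⁻¹ * w⁻¹) := by
    rw [show g * a * g⁻¹ = k * w * k⁻¹ by rw [hw, hn]; group]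
    group
  rw [e]
  exact K.mul_mem pr.mem
    ((Subgroup.mem_normalizer_iff.1 (pr.le_normalizer hwH) _).1 (inv_mem pr.mem))

/-- The main case: no element of `H` but the identity is fixed by `N_G(H)`, and `G` is generated
by the conjugates of `H`. -/
theorem no_moving_case (hh : Hyp p H) (hp2 : p ≠ 2)
    (hloc : ∀ c ∈ H, c ≠ 1 →
      Conclusion p (H.subgroupOf (Subgroup.centralizer ({c} : Set G))))
    (hH : H ≠ ⊥)
    (hmove : ∀ c ∈ H, c ≠ 1 → ∃ n ∈ Subgroup.normalizer (H : Set G), n * c * n⁻¹ ≠ c)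
    (hW : Subgroup.normalClosure (H : Set G) = ⊤) : False := by
  classical
  letI := Fintype.ofFinite G
  letI := Fintype.ofFinite H
  obtain ⟨M, hM⟩ := Blocks.exists_isPModular p hp.out
  haveI := hM.2.1
  letI := Fintype.ofFinite (Cfsg.IrrCharacter G)
  set s := Finset.univ.filter fun χ : Cfsg.IrrCharacter G => χ ∈ Cfsg.principalBlock M G with hs
  have hmem : ∀ {χ : Cfsg.IrrCharacter G}, χ ∈ s → χ ∈ Cfsg.principalBlock M G :=
    fun h => (Finset.mem_filter.mp h).2
  have hone : oneChar G ∈ s :=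
    Finset.mem_filter.mpr ⟨Finset.mem_univ _, Blocks.oneChar_mem_principalBlock⟩
  have hfin : ∀ F : Cfsg.IrrCharacter G → ℂ,
      ∑ᶠ χ ∈ Cfsg.principalBlock M G, F χ = ∑ χ ∈ s, F χ := fun F =>
    finsum_mem_eq_sum_of_inter_support_eq _ (by simp [hs])
  -- the order of `H`
  obtain ⟨a₀, ha₀, ha₀1⟩ := H.bot_or_exists_ne_one.resolve_left hH
  have hm3 : 3 ≤ Fintype.card H := by
    obtain ⟨i, hi⟩ := exists_order_p_pow hh.pgroup ha₀ ha₀1
    have h1 : p ≤ Nat.card H := Nat.le_of_dvd Nat.card_pos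
      (hi ▸ Subgroup.orderOf_dvd_natCard H (pow_mem ha₀ i))
    rw [Nat.card_eq_fintype_card] at h1
    have := hp.out.two_le
    omega
  set m : ℝ := (Fintype.card H : ℝ) with hm
  have hm3' : (3 : ℝ) ≤ m := by rw [hm]; exact_mod_cast hm3
  choose d hd0 hd using fun χ : Cfsg.IrrCharacter G => exists_degree_pos χ
  have hdR : ∀ χ, (0 : ℝ) < d χ := fun χ => Nat.cast_pos.mpr (hd0 χ)
  let X : Cfsg.IrrCharacter G → ℝ := fun χ => (∑ h : H, (χ : G → ℂ) h).re
  have hX : ∀ χ, (X χ : ℂ) = ∑ h : H, (χ : G → ℂ) h := fun χ => sum_subgroup_real χ H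
  -- the characters other than the principal one
  have hsmall : ∀ χ ∈ s, χ ≠ oneChar G → (m - 1) * (X χ - d χ) ≤ d χ := by
    intro χ hχ hne
    rcases sum_dichotomy hh hM hloc (hmem hχ) (hd χ) (by omega) with h | h
    · linarith
    exfalso
    refine hne (PrincipalCore.Basic.eq_oneChar_of_const fun g => ?_)
    have hle : ∀ h : H, ((χ : G → ℂ) h).re ≤ (d χ : ℝ) := fun x => by
      refine (Complex.re_le_norm _).trans ?_
      refine (norm_apply_le (isCharacter_irr χ) _).trans_eq ?_
      rw [hd χ, Complex.norm_natCast]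
    have heq : ∀ x : H, ((χ : G → ℂ) x).re = (d χ : ℝ) := by
      have hsum : ∑ x : H, ((χ : G → ℂ) x).re = ∑ x : H, (d χ : ℝ) := by
        refine le_antisymm (Finset.sum_le_sum fun x _ => hle x) ?_
        rw [Finset.sum_const, Finset.card_univ, nsmul_eq_mul, ← Complex.re_sum]
        exact h
      exact fun x => (Finset.sum_eq_sum_iff_of_le fun y _ => hle y).mp hsum x (Finset.mem_univ _)
    have hker : H ≤ Kernel.charKer (isCharacter_irr χ) := fun x hx => by
      rw [Kernel.mem_charKer, hd χ]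
      have h1 := heq ⟨x, hx⟩
      have h2 : ‖(χ : G → ℂ) x‖ ≤ (d χ : ℝ) := by
        have := norm_apply_le (isCharacter_irr χ) x
        rwa [hd χ, Complex.norm_natCast] at this
      refine Complex.ext (by simpa using h1) ?_
      have h3 := Complex.sq_norm ((χ : G → ℂ) x)
      rw [Complex.normSq_apply] at h3
      change ((χ : G → ℂ) x).re = _ at h1
      rw [h1] at h3
      have h4 := mul_self_le_mul_self (norm_nonneg _) h2
      simp only [Complex.natCast_im]
      nlinarith [mul_self_nonneg ((χ : G → ℂ) x).im]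
    haveI := Kernel.charKer_normal (isCharacter_irr χ)
    exact (hW ▸ Subgroup.normalClosure_le_normal hker) (Subgroup.mem_top g)
  -- an element minimising the block norm
  set H1 := (Finset.univ : Finset H).erase 1 with hH1
  obtain ⟨a, haH1, hamin⟩ := H1.exists_min_image (fun x => blockNorm M (x : G))
    ⟨⟨a₀, ha₀⟩, Finset.mem_erase.mpr ⟨fun h => ha₀1 (congrArg Subtype.val h), Finset.mem_univ _⟩⟩
  have hmem1 : ∀ x : H, x ∈ H1 → (x : G) ≠ 1 := fun x hx h =>
    (Finset.mem_erase.mp hx).1 (Subtype.ext h)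
  have ha : (a : G) ≠ 1 := hmem1 a haH1
  set S := blockNorm M (a : G) with hS
  have hSm : m ≤ S := by
    have := card_le_blockNorm hM hh.pgroup hh.comm a.2
    rwa [Nat.card_eq_fintype_card] at this
  -- orthogonality between elements of `H`
  have hpair : ∀ c ∈ H, ∀ b ∈ H, ∑ χ ∈ s, (χ : G → ℂ) c * (χ : G → ℂ) b⁻¹ =
      if IsConj c b then (blockNorm M c : ℂ) else 0 := by
    intro c hc b hb
    rw [← hfin]
    split_ifs with hcb
    · rw [coe_blockNorm]
      refine finsum_congr fun χ => finsum_congr fun _ => ?_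
      rw [apply_inv (isCharacter_irr χ), apply_inv (isCharacter_irr χ),
        classFunction_apply_of_isConj (isClassFunction_irr χ) hcb]
    · exact Blocks.sum_block_eq_zero hM
        (Blocks.isPPart_self hp.out (pow_orderOf_of_pgroup hh.pgroup hc))
        (Blocks.isPPart_self hp.out (pow_orderOf_of_pgroup hh.pgroup hb)) hcb
        Blocks.isPBlock_principalBlock
  -- the element of `H` under `g a g⁻¹ a⁻¹`
  choose K k pr using fun g => exists_pair hh g
  set c : G → G := fun g => (k g)⁻¹ * g * (a : G) * ((k g)⁻¹ * g)⁻¹ * (a : G)⁻¹ with hc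
  have hcH : ∀ g, c g ∈ H := fun g =>
    H.mul_mem ((Subgroup.mem_normalizer_iff.1 (pr g).conj _).1 a.2) (H.inv_mem a.2)
  have hterm : ∀ g : G, ∀ b : H, b ∈ H1 →
      (∑ χ ∈ s, (χ : G → ℂ) (g * a * g⁻¹ * (a : G)⁻¹) * (χ : G → ℂ) (b : G)⁻¹) =
        if c g ≠ 1 ∧ IsConj (c g) b then (blockNorm M (c g) : ℂ) else 0 := by
    intro g b hb
    have hu := (pr g).conj_div hh a.2
    by_cases h1 : c g = 1
    · rw [if_neg fun h => h.1 h1, ← hfin]
      have hreg : ¬ p ∣ orderOf (g * (a : G) * g⁻¹ * (a : G)⁻¹) := by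
        have : c g = 1 := h1
        simp only [hc] at this
        rw [this, inv_one, mul_one] at hu
        exact not_dvd_orderOf (pr g).pprime hu
      refine Blocks.sum_block_eq_zero hM (Blocks.isPPart_one_of_regular hreg)
        (Blocks.isPPart_self hp.out (pow_orderOf_of_pgroup hh.pgroup b.2))
        (fun h => hmem1 b hb (isConj_one_right.mp h)) Blocks.isPBlock_principalBlock
    · rw [Finset.sum_congr rfl fun χ hχ => by
        rw [char_value hh hM (hcH g) (hloc _ (hcH g) h1) (pr g) hu (hmem hχ)],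
        hpair _ (hcH g) b b.2]
      exact if_congr ⟨fun h => ⟨h1, h⟩, fun h => h.2⟩ rfl rfl
  -- the two sides
  set A : ℝ := ∑ χ ∈ s, Complex.normSq ((χ : G → ℂ) a) * ((X χ - d χ) / d χ) with hA
  have havg : (Fintype.card G : ℝ) * A =
      ∑ g : G, ∑ b ∈ H1, if c g ≠ 1 ∧ IsConj (c g) b then blockNorm M (c g) else 0 := by
    apply Complex.ofReal_injective
    push_cast [hA, apply_ite Complex.ofReal]
    rw [Finset.sum_congr rfl fun g _ => Finset.sum_congr rfl fun b hb => (hterm g b hb).symm,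
      Finset.mul_sum, Finset.sum_congr rfl fun g _ => Finset.sum_comm, Finset.sum_comm]
    refine Finset.sum_congr rfl fun χ _ => ?_
    simp only [← Finset.mul_sum, ← Finset.sum_mul]
    have hb : ∑ b ∈ H1, (χ : G → ℂ) (b : G)⁻¹ = (X χ : ℂ) - d χ := by
      have h1 : ∑ b : H, (χ : G → ℂ) (b : G)⁻¹ = (X χ : ℂ) := by
        rw [hX]
        exact Fintype.sum_equiv (Equiv.inv H) _ _ fun b => rfl
      rw [← h1, hH1, Finset.sum_erase_eq_sub (Finset.mem_univ _), OneMemClass.coe_one, inv_one, hd]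
    rw [hb, Blocks.sum_char_conj_mul, hd, apply_inv (isCharacter_irr χ), ← Complex.mul_conj,
      Nat.card_eq_fintype_card]
    have : (d χ : ℂ) ≠ 0 := Nat.cast_ne_zero.mpr (hd0 χ).ne'
    field_simp
  have hlow : S ≤ A := by
    have hg : ∀ g : G, (if c g ≠ 1 then 2 * S else 0) ≤
        ∑ b ∈ H1, if c g ≠ 1 ∧ IsConj (c g) b then blockNorm M (c g) else 0 := by
      intro g
      split_ifs with h1
      · obtain ⟨n, hn, hne⟩ := hmove _ (hcH g) h1
        have hnc : n * c g * n⁻¹ ∈ H := (Subgroup.mem_normalizer_iff.1 hn _).1 (hcH g)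
        have h2 : n * c g * n⁻¹ ≠ 1 := fun h => h1 (conj_eq_one_iff.mp h)
        have hmin : S ≤ blockNorm M (c g) := hamin ⟨c g, hcH g⟩
          (Finset.mem_erase.mpr ⟨fun h => h1 (congrArg Subtype.val h), Finset.mem_univ _⟩)
        have hS0 : (0 : ℝ) ≤ blockNorm M (c g) := by linarith
        calc 2 * S ≤ 2 * blockNorm M (c g) := by linarith
          _ = ∑ b ∈ ({⟨c g, hcH g⟩, ⟨n * c g * n⁻¹, hnc⟩} : Finset H),
              if c g ≠ 1 ∧ IsConj (c g) (b : G) then blockNorm M (c g) else 0 := by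
            rw [Finset.sum_pair (fun h => hne (congrArg Subtype.val h).symm), if_pos ⟨h1, IsConj.refl _⟩,
              if_pos ⟨h1, isConj_iff.mpr ⟨n, rfl⟩⟩]
            ring
          _ ≤ _ := Finset.sum_le_sum_of_subset_of_nonneg
            (fun b hb => by
              rcases Finset.mem_insert.mp hb with rfl | hb
              · exact Finset.mem_erase.mpr ⟨fun h => h1 (congrArg Subtype.val h), Finset.mem_univ _⟩
              · rw [Finset.mem_singleton.mp hb]
                exact Finset.mem_erase.mpr ⟨fun h => h2 (congrArg Subtype.val h), Finset.mem_univ _⟩)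
            (fun b _ _ => by split_ifs <;> linarith)
      · exact Finset.sum_nonneg fun b _ => by rw [if_neg fun h => h1 h.1]
    have h1 := Finset.sum_le_sum (s := Finset.univ) fun g (_ : g ∈ Finset.univ) => hg g
    rw [← havg, ← Finset.sum_filter, Finset.sum_const, nsmul_eq_mul] at h1
    have hhalf : Fintype.card G ≤ 2 * (Finset.univ.filter fun g => c g ≠ 1).card := by
      obtain ⟨m₀, hm₀, hm₀a⟩ := hmove _ a.2 ha
      have hinj : ((Finset.univ : Finset G).filter fun g => ¬ c g ≠ 1).card ≤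
          (Finset.univ.filter fun g => c g ≠ 1).card := by
        refine Finset.card_le_card_of_injOn (· * m₀) (fun g hg => ?_)
          (fun x _ y _ h => mul_right_cancel h)
        simp only [Finset.coe_filter, Finset.mem_univ, true_and, Set.mem_setOf_eq, not_not] at hg ⊢
        -- the normalising part of `g m₀` is that of `g` times `m₀`
        have hkeq : k (g * m₀) = k g := by
          have hmapEq : H.map (MulAut.conj (g * m₀)).toMonoidHom =
              H.map (MulAut.conj g).toMonoidHom := by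
            ext x
            rw [conj_mem_iff, conj_mem_iff,
              show (g * m₀)⁻¹ * x * (g * m₀) = m₀⁻¹ * (g⁻¹ * x * g) * m₀⁻¹⁻¹ by group]
            exact (Subgroup.mem_normalizer_iff.1 (inv_mem hm₀) _).symm
          have hk1 : k (g * m₀) ∈ K g := by
            rw [(pr g).mem_iff hh.pgroup, ← hmapEq]
            exact ((pr (g * m₀)).mem_iff hh.pgroup).1 (pr (g * m₀)).mem
          have h2 : (k g)⁻¹ * k (g * m₀) = 1 := by
            rw [← Subgroup.mem_bot, ← (pr g).inf]
            refine ⟨(K g).mul_mem ((K g).inv_mem (pr g).mem) hk1, ?_⟩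
            have e : (k g)⁻¹ * k (g * m₀) =
                ((k g)⁻¹ * g) * m₀ * ((k (g * m₀))⁻¹ * (g * m₀))⁻¹ := by group
            rw [e]
            exact Subgroup.mul_mem _ (Subgroup.mul_mem _ (pr g).conj hm₀)
              (Subgroup.inv_mem _ (pr (g * m₀)).conj)
          exact (inv_mul_eq_one.mp h2).symm
        intro h
        refine hm₀a ?_
        simp only [hc, hkeq, mul_inv_eq_one] at hg h
        have e : (k g)⁻¹ * (g * m₀) * (a : G) * ((k g)⁻¹ * (g * m₀))⁻¹ =
            ((k g)⁻¹ * g) * (m₀ * a * m₀⁻¹) * ((k g)⁻¹ * g)⁻¹ := by group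
        rw [e] at h
        exact mul_left_cancel (mul_right_cancel (h.trans hg.symm))
      have h2 := Finset.card_filter_add_card_filter_not (s := (Finset.univ : Finset G))
        (p := fun g => c g ≠ 1)
      rw [Finset.card_univ] at h2
      omega
    have hG : (0 : ℝ) < Fintype.card G := Nat.cast_pos.mpr Fintype.card_pos
    refine le_of_mul_le_mul_left ?_ hG
    refine le_trans ?_ h1
    have h3 : (Fintype.card G : ℝ) ≤ 2 * ((Finset.univ.filter fun g => c g ≠ 1).card : ℝ) := by
      exact_mod_cast hhalf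
    have h4 := mul_le_mul_of_nonneg_right h3 (by linarith : (0 : ℝ) ≤ S)
    linarith
  -- the upper bound, strict
  have hX1 : X (oneChar G) = m := by simp [X, oneChar_apply, hm]
  have hd1 : (d (oneChar G) : ℝ) = 1 := by
    have := hd (oneChar G)
    rw [oneChar_apply] at this
    exact_mod_cast this.symm
  have hbound : ∀ χ ∈ s.erase (oneChar G),
      Complex.normSq ((χ : G → ℂ) a) * ((m - 1) * ((X χ - d χ) / d χ)) ≤
        Complex.normSq ((χ : G → ℂ) a) := by
    intro χ hχ
    obtain ⟨hne, hχs⟩ := Finset.mem_erase.mp hχ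
    refine mul_le_of_le_one_right (Complex.normSq_nonneg _) ?_
    rw [← mul_div_assoc, div_le_one (hdR χ)]
    exact hsmall χ hχs hne
  have hAeq : (m - 1) * A = (m - 1) ^ 2 + ∑ χ ∈ s.erase (oneChar G),
      Complex.normSq ((χ : G → ℂ) a) * ((m - 1) * ((X χ - d χ) / d χ)) := by
    rw [hA, Finset.mul_sum, ← Finset.add_sum_erase _ _ hone, hX1, hd1, oneChar_apply, map_one]
    congr 1
    · ring
    · exact Finset.sum_congr rfl fun χ _ => by ring
  have hSsum : ∑ χ ∈ s.erase (oneChar G), Complex.normSq ((χ : G → ℂ) a) = S - 1 := by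
    rw [Finset.sum_erase_eq_sub hone, oneChar_apply, map_one, hS, blockNorm,
      finsum_mem_eq_sum_of_inter_support_eq (t := s) _ (by simp [hs])]
  by_cases hall : ∀ χ ∈ s.erase (oneChar G), (χ : G → ℂ) a = 0 ∨ (m - 1) * (X χ - d χ) = d χ
  · -- no equality
    have h1 : ∑ b ∈ H1, ∑ χ ∈ s, (χ : G → ℂ) b * (χ : G → ℂ) (a : G)⁻¹ =
        ((∑ b ∈ H1, if IsConj (b : G) a then S else 0 : ℝ) : ℂ) := by
      rw [Complex.ofReal_sum]
      refine Finset.sum_congr rfl fun b _ => ?_
      rw [hpair b b.2 a a.2, apply_ite Complex.ofReal, Complex.ofReal_zero]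
      split_ifs with h
      · rw [hS, blockNorm_eq_of_isConj M h]
      · rfl
    have h2 : ∀ χ : Cfsg.IrrCharacter G, ∑ b ∈ H1, (χ : G → ℂ) b = (X χ : ℂ) - d χ := fun χ => by
      rw [hH1, Finset.sum_erase_eq_sub (Finset.mem_univ _), OneMemClass.coe_one, hd, hX]
    rw [Finset.sum_comm] at h1
    simp only [← Finset.sum_mul, h2] at h1
    have h3 : ∑ χ ∈ s, (d χ : ℂ) * (χ : G → ℂ) (a : G)⁻¹ = 0 := by
      rw [← hfin]
      refine Eq.trans ?_ (Blocks.weak_orthogonality hM Blocks.isPBlock_principalBlock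
        (x := (1 : G)) (y := (a : G)) (by simp [hp.out.ne_one]) ?_)
      · refine finsum_congr fun χ => finsum_congr fun _ => ?_
        rw [hd, apply_inv (isCharacter_irr χ)]
      · obtain ⟨j, hj⟩ := pow_orderOf_of_pgroup hh.pgroup a.2
        rcases Nat.eq_zero_or_pos j with rfl | hj0
        · exact absurd (orderOf_eq_one_iff.mp (by simpa using hj)) ha
        · exact hj ▸ dvd_pow_self p hj0.ne'
    have h4 : ((m : ℂ) - 1) * ∑ χ ∈ s, ((X χ : ℂ) - d χ) * (χ : G → ℂ) (a : G)⁻¹ =
        ((m : ℂ) - 1) ^ 2 - 1 := by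
      have h5 : ∑ χ ∈ s.erase (oneChar G), (d χ : ℂ) * (χ : G → ℂ) (a : G)⁻¹ = -1 := by
        rw [Finset.sum_erase_eq_sub hone, h3, oneChar_apply, mul_one,
          show (d (oneChar G) : ℂ) = 1 by exact_mod_cast hd1, zero_sub]
      rw [Finset.mul_sum, ← Finset.add_sum_erase _ _ hone, hX1, oneChar_apply,
        show (d (oneChar G) : ℂ) = 1 by exact_mod_cast hd1]
      rw [Finset.sum_congr rfl (g := fun χ : Cfsg.IrrCharacter G =>
          (d χ : ℂ) * (χ : G → ℂ) (a : G)⁻¹) fun χ hχ => ?_, h5]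
      · ring
      · rcases hall χ hχ with h0 | h0
        · rw [apply_inv (isCharacter_irr χ), h0]; simp
        · rw [← mul_assoc, show ((m : ℂ) - 1) * ((X χ : ℂ) - d χ) = (d χ : ℂ) by exact_mod_cast h0]
    rw [h1] at h4
    have h6 : (m - 1) * (∑ b ∈ H1, if IsConj (b : G) a then S else 0) = (m - 1) ^ 2 - 1 := by
      exact_mod_cast h4
    have h7 : S ≤ ∑ b ∈ H1, if IsConj (b : G) (a : G) then S else 0 := by
      refine le_trans (le_of_eq ?_) (Finset.single_le_sum (fun b _ => ?_) haH1)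
      · rw [if_pos (IsConj.refl _)]
      · split_ifs <;> linarith
    have h8 := mul_le_mul_of_nonneg_left (hSm.trans h7) (by linarith : (0 : ℝ) ≤ m - 1)
    rw [h6] at h8
    nlinarith [h8]
  · push Not at hall
    obtain ⟨χ₁, hχ₁, hne0, hne1⟩ := hall
    have hlt : Complex.normSq ((χ₁ : G → ℂ) a) * ((m - 1) * ((X χ₁ - d χ₁) / d χ₁)) <
        Complex.normSq ((χ₁ : G → ℂ) a) := by
      obtain ⟨hne, hχs⟩ := Finset.mem_erase.mp hχ₁
      refine mul_lt_of_lt_one_right (Complex.normSq_pos.mpr hne0) ?_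
      rw [← mul_div_assoc, div_lt_one (hdR χ₁)]
      exact lt_of_le_of_ne (hsmall χ₁ hχs hne) hne1
    have h9 := Finset.sum_lt_sum hbound ⟨χ₁, hχ₁, hlt⟩
    rw [hSsum] at h9
    have h10 := mul_le_mul_of_nonneg_left hlow (by linarith : (0 : ℝ) ≤ m - 1)
    nlinarith [mul_le_mul_of_nonneg_left hSm (by linarith : (0 : ℝ) ≤ m - 2)]

theorem conclusion_aux (hp2 : p ≠ 2) : ∀ (n : ℕ) (G : Type u) [Group G] [Finite G]
    (H : Subgroup G), Nat.card G ≤ n → Hyp p H → Conclusion p H := by
  intro n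
  induction n with
  | zero =>
    intro G _ _ H hG
    exact absurd hG (by have := Nat.card_pos (α := G); omega)
  | succ n ih =>
    intro G _ _ H hG hh
    have ih' : ∀ (Q : Type u) [Group Q] [Finite Q] (J : Subgroup Q),
        Nat.card Q < Nat.card G → Hyp p J → Conclusion p J :=
      fun Q _ _ J hQ => ih Q J (by omega)
    by_cases hO : Cfsg.pPrimeCore p G = ⊥
    swap
    · exact of_core hh hO ih'
    suffices hN : Subgroup.normalizer (H : Set G) = ⊤ by
      rw [Conclusion, hN, top_sup_eq]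
    by_cases hH : H = ⊥
    · rw [hH]
      exact Subgroup.normalizer_eq_top_iff.mpr inferInstance
    by_cases hz : ∃ a ∈ H, orderOf a = p ∧ a ∈ Subgroup.center G
    · obtain ⟨a, ha, hap, hac⟩ := hz
      exact normal_of_core_bot hO (of_central hh hO ha hap hac ih')
    have hloc : ∀ c ∈ H, c ≠ 1 →
        Conclusion p (H.subgroupOf (Subgroup.centralizer ({c} : Set G))) := by
      intro c hc hc1
      have hne : Subgroup.centralizer ({c} : Set G) ≠ ⊤ := fun htop => by
        obtain ⟨i, hi⟩ := exists_order_p_pow hh.pgroup hc hc1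
        refine hz ⟨c ^ i, pow_mem hc i, hi, Subgroup.pow_mem _ ?_ i⟩
        rw [Subgroup.mem_center_iff]
        exact fun g => Subgroup.mem_centralizer_singleton_iff.mp (htop ▸ Subgroup.mem_top g)
      refine ih' _ _ ?_ (hh.subgroupOf fun x hx =>
        Subgroup.mem_centralizer_singleton_iff.mpr (hh.commute hx hc).eq)
      exact lt_of_le_of_ne (Subgroup.card_le_card_group _) fun e =>
        hne (Subgroup.card_eq_iff_eq_top _ |>.1 e)
    by_cases hfix : ∃ c ∈ H, c ≠ 1 ∧ ∀ g ∈ Subgroup.normalizer (H : Set G), g * c * g⁻¹ = c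
    · obtain ⟨c, hc, hc1, hcfix⟩ := hfix
      obtain ⟨i, hi⟩ := exists_order_p_pow hh.pgroup hc hc1
      exact absurd ⟨c ^ i, pow_mem hc i, hi, central_of_fixed hh hp2 hO hloc (pow_mem hc i) hi
        fun g hg => by rw [← conj_pow, hcfix g hg]⟩ hz
    push Not at hfix
    set W := Subgroup.normalClosure (H : Set G) with hW
    by_cases hWtop : W = ⊤
    · exact (no_moving_case hh hp2 hloc hH hfix hWtop).elim
    have hHW : H ≤ W := Subgroup.subset_normalClosure
    haveI : W.Normal := Subgroup.normalClosure_normal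
    have hlt : Nat.card W < Nat.card G :=
      lt_of_le_of_ne (Subgroup.card_le_card_group W) fun e =>
        hWtop (Subgroup.card_eq_iff_eq_top W |>.1 e)
    haveI : (Cfsg.pPrimeCore p W).Characteristic := Cores.pPrimeCore_characteristic p
    haveI := Cores.normal_map_subtype W (Cfsg.pPrimeCore p W)
    have hOW : Cfsg.pPrimeCore p W = ⊥ := by
      have h1 : (Cfsg.pPrimeCore p W).map W.subtype ≤ Cfsg.pPrimeCore p G :=
        Cores.le_pPrimeCore_of_not_dvd (by
          rw [Subgroup.card_subtype]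
          exact hp.out.coprime_iff_not_dvd.mp (Cores.pPrimeCore_coprime p).symm)
      rw [hO, le_bot_iff, Subgroup.map_eq_bot_iff_of_injective _ W.subtype_injective] at h1
      exact h1
    have hNW := normal_of_core_bot hOW (ih' W (H.subgroupOf W) hlt (hh.subgroupOf hHW))
    rw [eq_top_iff]
    intro g _
    refine Subgroup.mem_normalizer_fintype fun x hx => ?_
    have hW' : W ≤ Subgroup.normalizer (H : Set G) := fun w hw =>
      (mem_normalizer_subgroupOf hHW).1 (hNW.symm ▸ Subgroup.mem_top (⟨w, hw⟩ : W))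
    have hle : H ⊔ H.map (MulAut.conj g).toMonoidHom ≤ W := by
      refine sup_le hHW ?_
      rintro _ ⟨y, hy, rfl⟩
      exact ‹W.Normal›.conj_mem y (hHW hy) g
    have := hh.closed g
    rw [inf_eq_left.mpr (hle.trans hW')] at this
    exact this ▸ Subgroup.mem_sup_right (conj_mem_map hx)

/-- The factorisation. -/
theorem conclusion (hp2 : p ≠ 2) (hh : Hyp p H) : Conclusion p H :=
  conclusion_aux hp2 _ G H le_rfl hh

end Cfsg.Agent.Lib.ExtremeP
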