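import Cfsg.Agent.S0867
import Cfsg.Agent.Lib.Glauberman.Cyclic
import Cfsg.Agent.Lib.Chars82.StableExtension
import Cfsg.Agent.Lib.Coprime.Commutator

/-!
# Values of an extension on `v * e`, `v` a commutator of the centralizer

`X` is a normal `p'`-subgroup of `G` with abelian `p`-complement `H`.  If `Y = ⁅C_X(e), H⁆` has no
nontrivial fixed point of `H`, an extension `χ` of an irreducible character of `X` is constant
on `Y e`, and nonzero there.
-/

set_option autoImplicit false
set_option linter.unusedSectionVars false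
set_option linter.style.haveILetI false

namespace Cfsg.Agent.Lib.ExtremeP

open Cfsg.Agent.Lib.Characters Cfsg.Agent.Lib.Characters.Basic
open scoped ComplexConjugate commutatorElement

universe u

variable {G : Type u} [Group G] [Finite G] {p : ℕ} [hp : Fact p.Prime]

theorem card_coprime_of_pgroup {H X : Subgroup G} (hH : IsPGroup p H) (hX : ¬ p ∣ Nat.card X) :
    (Nat.card H).Coprime (Nat.card X) := by
  obtain ⟨n, hn⟩ := hH.exists_card_eq
  rw [hn]
  exact (hp.out.coprime_iff_not_dvd.mpr hX).pow_left n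

theorem value_section (X H : Subgroup G) [X.Normal] (hHp : IsPGroup p H)
    (hHab : IsMulCommutative H) (hXp : ¬ p ∣ Nat.card X)
    (θ : Cfsg.IrrCharacter X) (χ : Cfsg.IrrCharacter G)
    (hres : ∀ x : X, (χ : G → ℂ) x = (θ : X → ℂ) x)
    (hdet : ¬ p ∣ Cfsg.detOrder (χ : G → ℂ)) {e : G} (he : e ∈ H) :
    (χ : G → ℂ) e ≠ 0 ∧
      (⁅X ⊓ Subgroup.centralizer ({e} : Set G), H⁆ ⊓ Subgroup.centralizer (H : Set G) = ⊥ →
        ∀ v ∈ ⁅X ⊓ Subgroup.centralizer ({e} : Set G), H⁆, (χ : G → ℂ) (v * e) = (χ : G → ℂ) e) := by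
  classical
  letI := Fintype.ofFinite G
  set D := X ⊓ Subgroup.centralizer ({e} : Set G) with hD
  set Γ := X ⊔ Subgroup.zpowers e with hΓ
  have hXΓ : X ≤ Γ := le_sup_left
  have heΓ : Subgroup.zpowers e ≤ Γ := le_sup_right
  have hDΓ : D ≤ Γ := inf_le_left.trans hXΓ
  set G1 := X.subgroupOf Γ with hG1
  set S := (Subgroup.zpowers e).subgroupOf Γ with hS
  set C := D.subgroupOf Γ with hC
  letI := Fintype.ofFinite Γ
  letI := Fintype.ofFinite G1
  letI := Fintype.ofFinite C
  have hzH : Subgroup.zpowers e ≤ H := Subgroup.zpowers_le.mpr he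
  have hcop : (Nat.card G1).Coprime (Nat.card S) := by
    rw [hG1, hS, Nat.card_congr (Subgroup.subgroupOfEquivOfLe hXΓ).toEquiv,
      Nat.card_congr (Subgroup.subgroupOfEquivOfLe heΓ).toEquiv]
    exact (card_coprime_of_pgroup (hHp.to_le hzH) hXp).symm
  have hset : Glauberman.Cyclic.Setup G1 S C :=
    { norm := fun s _ g hg => Subgroup.mem_subgroupOf.mpr
        (by simpa using (inferInstance : X.Normal).conj_mem (g : G) hg (s : G))
      cop := hcop
      top := by
        rw [hG1, hS, ← Subgroup.subgroupOf_sup hXΓ heΓ, Subgroup.subgroupOf_self]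
      cyc := (Subgroup.subgroupOfEquivOfLe heΓ).isCyclic.mpr inferInstance
      hC := by
        ext x
        simp only [hC, hD, hG1, hS, Subgroup.mem_inf, Subgroup.mem_subgroupOf,
          Subgroup.mem_centralizer_iff]
        refine and_congr Iff.rfl ⟨fun h s hs => ?_, fun h g hg => ?_⟩
        · obtain ⟨i, hi⟩ := Subgroup.mem_zpowers_iff.mp (Subgroup.mem_subgroupOf.mp hs)
          refine Subtype.ext ?_
          have hc : Commute e (x : G) := h e rfl
          show (s : G) * x = x * s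
          rw [← hi]
          exact (hc.zpow_left i).eq
        · rw [Set.mem_singleton_iff.mp hg]
          exact congrArg Subtype.val (h ⟨e, heΓ (Subgroup.mem_zpowers e)⟩
            (Subgroup.mem_subgroupOf.mpr (Subgroup.mem_zpowers e)))
      le := Subgroup.comap_mono inf_le_left }
  let E1 := Subgroup.subgroupOfEquivOfLe hXΓ
  let θ1 : Cfsg.IrrCharacter G1 :=
    ⟨(θ : X → ℂ) ∘ E1.toMonoidHom, isIrrCharacter_comp _ E1.surjective θ.2⟩
  have hres1 : ∀ g : G1, (χ : G → ℂ) ((g : Γ) : G) = (θ1 : G1 → ℂ) g := fun g =>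
    hres ⟨((g : Γ) : G), g.2⟩
  let χh : Cfsg.IrrCharacter Γ := ⟨(χ : G → ℂ) ∘ Γ.subtype,
    Chars82.StableExtension.isIrr_of_restrict_irr (G1.subtype)
      (isCharacter_comp Γ.subtype (isCharacter_irr χ)) θ1 hres1⟩
  have hdet1 : (Cfsg.detOrder (χh : Γ → ℂ)).Coprime (Nat.card S) := by
    obtain ⟨μ, hμ⟩ := Clifford.Extension.exists_detHom χ.2
    have e1 : Cfsg.detChar (χh : Γ → ℂ) = Clifford.Linear.toFunHom (μ.comp Γ.subtype) := by
      funext n
      rw [Clifford.Extension.detChar_restrict Γ χ.2 χh.2 (fun _ => rfl) n]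
      exact (congrFun hμ (n : G)).symm
    have hd : Cfsg.detOrder (χh : Γ → ℂ) ∣ Cfsg.detOrder (χ : G → ℂ) := by
      rw [Cfsg.detOrder, Cfsg.detOrder, e1, ← hμ, Clifford.Linear.orderOf_toFunHom,
        Clifford.Linear.orderOf_toFunHom]
      refine orderOf_dvd_of_pow_eq_one (MonoidHom.ext fun n => ?_)
      exact DFunLike.congr_fun (pow_orderOf_eq_one μ) (n : G)
    obtain ⟨n, hn⟩ := (hHp.to_le hzH).exists_card_eq
    rw [hS, Nat.card_congr (Subgroup.subgroupOfEquivOfLe heΓ).toEquiv, hn]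
    exact ((hp.out.coprime_iff_not_dvd.mpr fun h => hdet (h.trans hd)).symm).pow_right n
  obtain ⟨β, ε, hε, hβ, -⟩ := Glauberman.Cyclic.exists_beta hset (χh := χh) (χ := θ1)
    (fun g => hres1 g) hdet1
  have hgen : Subgroup.zpowers (⟨e, heΓ (Subgroup.mem_zpowers e)⟩ : Γ) = S := by
    ext x
    simp only [hS, Subgroup.mem_subgroupOf, Subgroup.mem_zpowers_iff]
    exact ⟨fun ⟨i, hi⟩ => ⟨i, by rw [← hi]; simp⟩, fun ⟨i, hi⟩ => ⟨i, Subtype.ext (by simpa using hi)⟩⟩
  have hε0 : (ε : ℂ) ≠ 0 := by rcases hε with rfl | rfl <;> simp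
  let E := Subgroup.subgroupOfEquivOfLe hDΓ
  let β' : Cfsg.IrrCharacter D :=
    ⟨(β : C → ℂ) ∘ E.symm.toMonoidHom, isIrrCharacter_comp _ E.symm.surjective β.2⟩
  have hval : ∀ d : D, (χ : G → ℂ) ((d : G) * e) = (ε : ℂ) * (β' : D → ℂ) d := fun d =>
    hβ (E.symm d) _ hgen
  have h1 : (χ : G → ℂ) e = (ε : ℂ) * (β' : D → ℂ) 1 := by simpa using hval 1
  have hne : (χ : G → ℂ) e ≠ 0 := h1 ▸ mul_ne_zero hε0 (apply_one_ne_zero β')
  refine ⟨hne, fun hfix v hv => ?_⟩
  -- `β'` is fixed by `H`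
  have hHD : H ≤ Subgroup.normalizer (D : Set G) := fun h hh => by
    refine Subgroup.mem_normalizer_fintype fun x hx => ⟨(inferInstance : X.Normal).conj_mem x hx.1 h, ?_⟩
    have hhe : Commute e h := congrArg Subtype.val (mul_comm' (⟨e, he⟩ : H) ⟨h, hh⟩)
    have hxe : Commute e x := Subgroup.mem_centralizer_iff.mp hx.2 e rfl
    exact Subgroup.mem_centralizer_singleton_iff.mpr
      ((hhe.mul_right hxe).mul_right hhe.inv_right).eq.symm
  have hinv : ∀ (h : G), h ∈ H → ∀ d d' : D, (d' : G) = h * d * h⁻¹ →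
      (β' : D → ℂ) d' = (β' : D → ℂ) d := by
    intro h hh d d' hd
    refine mul_left_cancel₀ hε0 ?_
    rw [← hval, ← hval, hd]
    have hhe : Commute e h := congrArg Subtype.val (mul_comm' (⟨e, he⟩ : H) ⟨h, hh⟩)
    rw [mul_assoc _ h⁻¹, ← hhe.inv_right.eq, ← mul_assoc, mul_assoc h (d : G) e]
    exact Blocks.char_conj_apply χ _ _
  set Y := ⁅D, H⁆ with hY
  have hYD : Y ≤ D := Coprime.commutator_le_of_le_normalizer hHD
  set N := Y.subgroupOf D with hN
  haveI : N.Normal := (Subgroup.normal_subgroupOf_iff_le_normalizer hYD).mpr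
    (Coprime.left_le_normalizer_commutator D H)
  letI := Fintype.ofFinite D
  letI := Fintype.ofFinite N
  have hinner : Cfsg.classInner (fun n : N => (β' : D → ℂ) n) (oneChar N : N → ℂ) ≠ 0 := by
    obtain ⟨M, hM⟩ := Blocks.exists_isPModular p hp.out
    haveI := hM.2.1
    haveI := Blocks.charP_residue hM
    let q : Cfsg.AlgInt →+* Cfsg.AlgInt ⧸ M := Ideal.Quotient.mk M
    have hnorm : ∀ h ∈ H, ∀ y ∈ Y, h * y * h⁻¹ ∈ Y := fun h hh y hy =>
      (Subgroup.mem_normalizer_iff.mp (Coprime.right_le_normalizer_commutator D H hh) y).mp hy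
    letI := MulAction.compHom Y (Glauberman.actOf hnorm)
    letI := Fintype.ofFinite Y
    let F : Y → Cfsg.AlgInt := fun y => Glauberman.ai (isCharacter_irr β') ⟨y, hYD y.2⟩
    have hsum : q (∑ y : Y, F y) = q (F 1) := by
      rw [map_sum, BrauerMap.Basic.sum_eq_sum_fixed hHp (fun y => q (F y)) (fun h y => ?_),
        Finset.sum_eq_single_of_mem (1 : Y)]
      · exact Finset.mem_filter.mpr ⟨Finset.mem_univ _, fun h => map_one (Glauberman.actOf hnorm h)⟩
      · intro y hy hy1
        exfalso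
        refine hy1 (Subtype.ext ?_)
        have : (y : G) ∈ Y ⊓ Subgroup.centralizer (H : Set G) := by
          refine ⟨y.2, Subgroup.mem_centralizer_iff.mpr fun h hh => ?_⟩
          exact mul_inv_eq_iff_eq_mul.mp (congrArg Subtype.val ((Finset.mem_filter.mp hy).2 ⟨h, hh⟩))
        rw [hfix] at this
        exact this
      · refine congrArg q (Subtype.ext ?_)
        exact hinv (h : G) h.2 ⟨y, hYD y.2⟩ _ rfl
    obtain ⟨d, hd0, hdvd, hd⟩ := Degree.exists_degree_dvd β'
    have hF1 : q (F 1) ≠ 0 := by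
      have : F 1 = (d : Cfsg.AlgInt) := Subtype.ext (by
        rw [show ((F 1 : Cfsg.AlgInt) : ℂ) = (β' : D → ℂ) 1 from rfl, hd]; rfl)
      rw [this, map_natCast]
      rw [Ne, Glauberman.natCast_quot_eq_zero_iff hM]
      exact fun hpd => hXp ((hpd.trans hdvd).trans (Subgroup.card_dvd_of_le inf_le_left))
    intro h0
    rw [Cfsg.classInner, mul_eq_zero, inv_eq_zero] at h0
    simp only [oneChar_apply, map_one, mul_one] at h0
    have h0' := h0.resolve_left Induced.Basic.natCard_ne_zero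
    apply hF1
    rw [← hsum]
    have : ∑ y : Y, F y = 0 := by
      apply Subtype.ext
      rw [AddSubmonoidClass.coe_finsetSum, ZeroMemClass.coe_zero, ← h0']
      exact (Fintype.sum_equiv (Subgroup.subgroupOfEquivOfLe hYD).toEquiv _ _ fun n => rfl).symm
    rw [this, map_zero]
  have hrs := Clifford.Basic.restrict_eq_smul N β'.2 (oneChar N) hinner fun g => rfl
  have hvD : v ∈ D := hYD hv
  have ha := congrFun hrs ⟨⟨v, hvD⟩, hv⟩
  have hb := congrFun hrs 1
  simp only [Pi.smul_apply, oneChar_apply] at ha hb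
  rw [hval ⟨v, hvD⟩, h1]
  exact congrArg _ (ha.trans hb.symm)

end Cfsg.Agent.Lib.ExtremeP
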